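import Groth.Agent.Lib.ModSS29.TA
import Groth.Agent.Lib.SiteCoh.Pushforward
import Groth.Agent.Lib.SiteCoh.Acyclic

/-!
# Totally acyclic modules and direct images
-/

set_option linter.style.haveILetI false
set_option linter.unusedSectionVars false

universe u v₂ u₂

open CategoryTheory Limits Opposite Abelian

namespace Groth.Agent.Lib.ModSS29.TAPush

variable {C : Type u} [SmallCategory C] {J : GrothendieckTopology C} {O : Sheaf J CommRingCat.{u}}

lemma surjective_app (S : ShortComplex (_root_.ModSite.Mod O)) (hS : S.ShortExact)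
    (h₁ : CohCx.IsTotallyAcyclic (_root_.ModSite.toAb S.X₁)) (U : C) :
    Function.Surjective (((SheafOfModules.toSheaf _).map S.g).hom.app (op U)) :=
  SiteCoh.Acyclic.surjective_app_of_subsingleton
    (hS.map_of_exact (SheafOfModules.toSheaf (_root_.ModSite.ringSh O)))
    (SiteCoh.FreeSheaf.subsingleton_hu_of_isTotallyAcyclic h₁ U 0)

variable [HasInjectiveResolutions (_root_.ModSite.Mod O)]
  {B : Type u₂} [Category.{v₂} B] [Abelian B]

/-- Totally acyclic modules are acyclic for left exact functors exact on totally acyclic kernels. -/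
theorem isZero_rightDerived (Γ : _root_.ModSite.Mod O ⥤ B) [Γ.Additive] [PreservesFiniteLimits Γ]
    (hΓ : ∀ S : ShortComplex (_root_.ModSite.Mod O), S.ShortExact →
      CohCx.IsTotallyAcyclic (_root_.ModSite.toAb S.X₁) → Epi (Γ.map S.g))
    (M : _root_.ModSite.Mod O) (hM : CohCx.IsTotallyAcyclic (_root_.ModSite.toAb M)) (k : ℕ) :
    IsZero ((Γ.rightDerived (k + 1)).obj M) := by
  let P := injectiveResolution M
  have hcyc : ∀ j, CohCx.IsTotallyAcyclic (_root_.ModSite.toAb (EtJ.RightAcyclic.cyc P j)) := fun j => by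
    induction j with
    | zero => exact TA.ta_of_iso ((SheafOfModules.toSheaf _).mapIso (EtJ.RightAcyclic.isoCyc₀ P)) hM
    | succ j ih =>
      exact SiteCoh.TotAcyclic.isTotallyAcyclic_X₃
        ((EtJ.RightAcyclic.seq_shortExact P j).map_of_exact (SheafOfModules.toSheaf _)) ih
        (TA.ta_injective O (P.cocomplex.X j))
  refine IsZero.of_iso ?_ (P.isoRightDerivedObj Γ (k + 1))
  refine (HomologicalComplex.exactAt_iff_isZero_homology _ _).1
    ((HomologicalComplex.exactAt_iff' _ k (k + 1) (k + 2) (by simp) (by simp)).2 ?_)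
  let E₁ := ShortComplex.mk (Γ.map (EtJ.RightAcyclic.seq P (k + 1)).f)
    (Γ.map (P.cocomplex.d (k + 1) (k + 2)))
    (by rw [← Γ.map_comp]; exact (congrArg Γ.map (kernel.condition _)).trans (Γ.map_zero _ _))
  have hE₁ : E₁.Exact := ShortComplex.exact_of_f_is_kernel _
    (KernelFork.mapIsLimit _ (kernelIsKernel (P.cocomplex.d (k + 1) (k + 2))) Γ)
  let φ : ((Γ.mapHomologicalComplex _).obj P.cocomplex).sc' k (k + 1) (k + 2) ⟶ E₁ :=
    { τ₁ := Γ.map (EtJ.RightAcyclic.seq P k).g
      τ₂ := 𝟙 _
      τ₃ := 𝟙 _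
      comm₁₂ := ((Γ.map_comp _ _).symm.trans (congrArg Γ.map (kernel.lift_ι _ _ _))).trans
        (Category.comp_id _).symm
      comm₂₃ := (Category.id_comp _).trans (Category.comp_id _).symm }
  haveI : Epi φ.τ₁ := hΓ _ (EtJ.RightAcyclic.seq_shortExact P k) (hcyc k)
  haveI : IsIso φ.τ₂ := inferInstanceAs (IsIso (𝟙 _))
  haveI : Mono φ.τ₃ := inferInstanceAs (Mono (𝟙 _))
  exact (ShortComplex.exact_iff_of_epi_of_isIso_of_mono φ).2 hE₁

variable {D : Type u} [SmallCategory D] {K : GrothendieckTopology D} {O' : Sheaf K CommRingCat.{u}}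

omit [HasInjectiveResolutions (_root_.ModSite.Mod O)] in
/-- Direct image preserves total acyclicity of modules. -/
theorem ta_push (f : _root_.ModSite.RMor O O') (M : _root_.ModSite.Mod O)
    (hM : CohCx.IsTotallyAcyclic (_root_.ModSite.toAb M)) :
    CohCx.IsTotallyAcyclic (_root_.ModSite.toAb (f.push.obj M)) :=
  SiteCoh.Pushforward.isTotallyAcyclic_push (u := f.fn) hM

/-- Totally acyclic modules are acyclic for direct images. -/
theorem isZero_push (f : _root_.ModSite.RMor O O') (M : _root_.ModSite.Mod O)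
    (hM : CohCx.IsTotallyAcyclic (_root_.ModSite.toAb M)) (k : ℕ) :
    IsZero ((f.push.rightDerived (k + 1)).obj M) := by
  haveI : f.push.IsRightAdjoint := f.adj.isRightAdjoint
  refine isZero_rightDerived f.push (fun S hS h₁ => ?_) M hM k
  apply (SheafOfModules.toSheaf _).epi_of_epi_map
  refine (Sheaf.isLocallySurjective_iff_epi' _ _).1 ?_
  exact Presheaf.isLocallySurjective_of_surjective K
    ((SheafOfModules.toSheaf _).map (f.push.map S.g)).hom
    fun V => surjective_app S hS h₁ (f.fn.obj V.unop)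

end Groth.Agent.Lib.ModSS29.TAPush
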