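import Groth.Agent.Lib.SpecSeq.HomExt
import Mathlib.Algebra.Homology.DerivedCategory.Ext.ExactSequences
import Mathlib.Algebra.Homology.DerivedCategory.Ext.EnoughInjectives
import Mathlib.CategoryTheory.Abelian.Exact

/-!
# Ext groups along an exact functor
-/

universe v₁ v₂ u₁ u₂

open CategoryTheory Limits Abelian

namespace Groth.Agent.Lib.ModSS29.ExtCompare

open Groth.Agent.Lib.SpecSeq.HomExt

variable {A : Type u₁} [Category.{v₁} A] [Abelian A] [HasExt.{v₁} A] [EnoughInjectives A]
  {B : Type u₂} [Category.{v₁} B] [Abelian B] [HasExt.{v₁} B]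

/-- If an exact functor carries `Hom(W, -)` to `Hom(P, -)` and injectives to acyclic objects,
it carries `Extⁿ(W, -)` to `Extⁿ(P, -)`. -/
theorem nonempty_extEquiv (E : A ⥤ B) [E.Additive] [PreservesFiniteLimits E]
    [PreservesFiniteColimits E] (P : A) (W : B) (e : E ⋙ homFunctor W ≅ homFunctor P)
    (hW : ∀ (I : A) [Injective I] (p : ℕ), Subsingleton (Ext W (E.obj I) (p + 1))) (n : ℕ) :
    ∀ M : A, Nonempty (Ext P M n ≃+ Ext W (E.obj M) n) := by
  induction n with
  | zero => exact fun M =>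
      ⟨Ext.addEquiv₀.trans ((e.app M).symm.addCommGroupIsoToAddEquiv.trans Ext.addEquiv₀.symm)⟩
  | succ n ih =>
    intro M
    let S : ShortComplex A := ShortComplex.mk (Injective.ι M) (cokernel.π _) (cokernel.condition _)
    have hS : S.ShortExact := { exact := ShortComplex.exact_of_g_is_cokernel _ (cokernelIsCokernel _) }
    have hS' : (S.map E).ShortExact := hS.map_of_exact E
    have hI : Injective S.X₂ := inferInstanceAs (Injective (Injective.under M))
    let δ : Ext P S.X₃ n →+ Ext P M (n + 1) := hS.extClass.postcomp P rfl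
    let δ' : Ext W (E.obj S.X₃) n →+ Ext W (E.obj M) (n + 1) := hS'.extClass.postcomp W rfl
    have hsur : Function.Surjective δ := fun x =>
      Ext.covariant_sequence_exact₁ P hS x (Ext.eq_zero_of_injective _) rfl
    have hsur' : Function.Surjective δ' := fun x =>
      Ext.covariant_sequence_exact₁ W hS' x ((hW S.X₂ n).elim _ _) rfl
    have hker : ∀ y, δ y = 0 ↔ ∃ t : Ext P S.X₂ n, t.comp (Ext.mk₀ S.g) (add_zero n) = y := fun y => by
      refine ⟨fun h => Ext.covariant_sequence_exact₃ P hS y rfl h, ?_⟩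
      rintro ⟨t, rfl⟩
      refine (Ext.comp_assoc (a₁₂ := n) (a₂₃ := 1) t (Ext.mk₀ S.g) hS.extClass (add_zero n)
        (zero_add 1) (by omega)).trans ?_
      exact (congrArg (fun v => t.comp v rfl) hS.comp_extClass).trans (Ext.comp_zero _ _ _ _ _)
    have hker' : ∀ y, δ' y = 0 ↔
        ∃ t : Ext W (E.obj S.X₂) n, t.comp (Ext.mk₀ (E.map S.g)) (add_zero n) = y := fun y => by
      refine ⟨fun h => Ext.covariant_sequence_exact₃ W hS' y rfl h, ?_⟩
      rintro ⟨t, rfl⟩
      refine (Ext.comp_assoc (a₁₂ := n) (a₂₃ := 1) t (Ext.mk₀ (E.map S.g)) hS'.extClass (add_zero n)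
        (zero_add 1) (by omega)).trans ?_
      exact (congrArg (fun v => t.comp v rfl) hS'.comp_extClass).trans (Ext.comp_zero _ _ _ _ _)
    cases n with
    | zero =>
      let a : (P ⟶ S.X₃) →+ Ext P M 1 := δ.comp Ext.addEquiv₀.symm.toAddMonoidHom
      let b : (P ⟶ S.X₃) →+ Ext W (E.obj M) 1 := δ'.comp
        ((e.app S.X₃).symm.addCommGroupIsoToAddEquiv.trans Ext.addEquiv₀.symm).toAddMonoidHom
      have key : ∀ f, a f = 0 ↔ b f = 0 := fun f => by
        refine ((hker _).trans ?_).trans (hker' _).symm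
        constructor
        · rintro ⟨t, ht⟩
          obtain ⟨t, rfl⟩ := (Ext.mk₀_bijective _ _).2 t
          rw [Ext.mk₀_comp_mk₀] at ht
          obtain rfl := (Ext.mk₀_bijective _ _).1 ht
          exact ⟨Ext.mk₀ (e.inv.app S.X₂ t), (Ext.mk₀_comp_mk₀ _ _).trans
            (congrArg Ext.mk₀ (ConcreteCategory.congr_hom (e.inv.naturality S.g) t).symm)⟩
        · rintro ⟨t, ht⟩
          obtain ⟨t, rfl⟩ := (Ext.mk₀_bijective _ _).2 t
          rw [Ext.mk₀_comp_mk₀] at ht
          have h := congrArg (e.hom.app S.X₃) ((Ext.mk₀_bijective _ _).1 ht)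
          refine ⟨Ext.mk₀ (e.hom.app S.X₂ t), (Ext.mk₀_comp_mk₀ _ _).trans (congrArg Ext.mk₀ ?_)⟩
          exact ((ConcreteCategory.congr_hom (e.hom.naturality S.g) t).symm.trans h).trans
            (ConcreteCategory.congr_hom (e.inv_hom_id_app S.X₃) f)
      exact ⟨((QuotientAddGroup.quotientKerEquivOfSurjective a
        (hsur.comp Ext.addEquiv₀.symm.surjective)).symm.trans
        (QuotientAddGroup.quotientAddEquivOfEq (by ext f; exact key f))).trans
        (QuotientAddGroup.quotientKerEquivOfSurjective b (hsur'.comp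
          ((e.app S.X₃).symm.addCommGroupIsoToAddEquiv.trans Ext.addEquiv₀.symm).surjective))⟩
    | succ p =>
      have hinj : Function.Injective δ := (injective_iff_map_eq_zero _).2 fun y hy => by
        obtain ⟨t, rfl⟩ := (hker y).1 hy
        rw [Ext.eq_zero_of_injective t, Ext.zero_comp]
      have hinj' : Function.Injective δ' := (injective_iff_map_eq_zero _).2 fun y hy => by
        obtain ⟨t, rfl⟩ := (hker' y).1 hy
        rw [(hW S.X₂ p).elim t 0, Ext.zero_comp]
      exact ⟨(AddEquiv.ofBijective δ ⟨hinj, hsur⟩).symm.trans ((ih S.X₃).some.trans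
        (AddEquiv.ofBijective δ' ⟨hinj', hsur'⟩))⟩

end Groth.Agent.Lib.ModSS29.ExtCompare
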