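import Groth.Agent.Lib.ModSS29.AbSide
import Groth.Agent.Lib.SpecSeq.HomExtNat
import Groth.Agent.Lib.Modules.ToSheaf
import Groth.Agent.Lib.SiteKFlat.Basic
import Groth.Prelude.Def_SpSeq
import Mathlib.CategoryTheory.Abelian.GrothendieckCategory.EnoughInjectives
import Mathlib.Algebra.Homology.ShortComplex.PreservesHomology
import Mathlib.Algebra.Category.Grp.Zero

/-!
# Spectral sequences of a composite `Hom(W, toAb ℋom(X, -))`
-/

set_option linter.style.haveILetI false
set_option linter.unusedSectionVars false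

universe w v₁ v₂ v₃ u₁ u₂ u₃ u

open CategoryTheory Limits Opposite Abelian

namespace Groth.Agent.Lib.ModSS29.SS

open Groth.Agent.Lib.SpecSeq Groth.Agent.Lib.SpecSeq.HomExt OpenFree AbSide

section

variable {A : Type u₁} [Category.{v₁} A] [Abelian A] [HasInjectiveResolutions A]
  {B : Type u₂} [Category.{v₂} B] [Abelian B] {B' : Type u₃} [Category.{v₃} B'] [Abelian B']

/-- An exact functor commutes with right derived functors. -/
noncomputable def rdExactIso (F : A ⥤ B) [F.Additive] (E : B ⥤ B') [E.Additive]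
    [E.PreservesHomology] (q : ℕ) (X : A) :
    ((F ⋙ E).rightDerived q).obj X ≅ E.obj ((F.rightDerived q).obj X) :=
  (injectiveResolution X).isoRightDerivedObj (F ⋙ E) q ≪≫
    (((F.mapHomologicalComplex _).obj (injectiveResolution X).cocomplex).sc q).mapHomologyIso E ≪≫
    E.mapIso ((injectiveResolution X).isoRightDerivedObj F q).symm

/-- Right adjoints of isomorphic functors are isomorphic. -/
noncomputable def radjIso {F F' : A ⥤ B} {G G' : B ⥤ A} (h : F ⊣ G) (h' : F' ⊣ G') (e : F ≅ F') :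
    G ≅ G' := (h.ofNatIsoLeft e).rightAdjointUniq h'

/-- Composing a right adjoint with `Hom(P, -)`. -/
noncomputable def compHomIso [HasExt.{v₁} A] {B : Type u₂} [Category.{v₁} B] [Abelian B]
    [HasExt.{v₁} B] {F : A ⥤ B} {G : B ⥤ A} (adj : F ⊣ G) [F.Additive] (P : A) :
    G ⋙ homFunctor P ≅ homFunctor (F.obj P) :=
  NatIso.ofComponents (fun Y => (adj.homAddEquiv P Y).symm.toAddCommGrpIso) (fun {Y Y'} f => by
    ext y
    exact adj.homEquiv_naturality_right_symm y f)

lemma isZero_rightDerived_hom [HasExt.{v₁} A] (W X : A) (q : ℕ) [Subsingleton (Ext W X q)] :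
    IsZero (((homFunctor W).rightDerived q).obj X) :=
  (AddCommGrpCat.isZero_of_subsingleton (AddCommGrpCat.of (Ext W X q))).of_iso (rightDerivedIso W X q)

/-- Isomorphic objects have isomorphic Ext groups. -/
noncomputable def extIsoFst [HasExt.{v₁} A] {P P' : A} (e : P ≅ P') (X : A) (n : ℕ) :
    AddCommGrpCat.of (Ext P X n) ≅ AddCommGrpCat.of (Ext P' X n) :=
  (rightDerivedIso P X n).symm ≪≫
    Composite.rightDerivedCongr (preadditiveCoyoneda.mapIso e.symm.op) n X ≪≫ rightDerivedIso P' X n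

end

variable {C : Type u} [SmallCategory C] {J : GrothendieckTopology C} {O : Sheaf J CommRingCat.{u}}

instance preservesHomology_toSheaf :
    (SheafOfModules.toSheaf.{u} (_root_.ModSite.ringSh O)).PreservesHomology := inferInstance

lemma additive_flip (X : _root_.ModSite.Mod O) [_root_.ModSite.HasSheafHom X] :
    ((_root_.ModSite.tensorBi O).flip.obj X).Additive :=
  (_root_.ModSite.sheafHomAdj X).left_adjoint_additive

variable [HasInjectiveResolutions (_root_.ModSite.Mod O)]

/-- The functor `N ↦ toAb ℋom(X, N)`. -/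
noncomputable abbrev homSh (X : _root_.ModSite.Mod O) [_root_.ModSite.HasSheafHom X] :
    _root_.ModSite.Mod O ⥤ Sheaf J AddCommGrpCat.{u} :=
  _root_.ModSite.sheafHom X ⋙ SheafOfModules.toSheaf _

variable [HasExt.{u} (_root_.ModSite.Mod O)]

/-- The spectral sequence `Extᵖ(W, ℰxt^q(X, N)) ⇒ Ext^{p+q}(P ⊗ X, N)`. -/
theorem main (X N : _root_.ModSite.Mod O) [_root_.ModSite.HasSheafHom X]
    (W : Sheaf J AddCommGrpCat.{u}) (P : _root_.ModSite.Mod O)
    (e : SheafOfModules.toSheaf _ ⋙ homFunctor W ≅ homFunctor P)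
    (hW : ∀ (I : _root_.ModSite.Mod O) [Injective I] (p : ℕ),
      Subsingleton (Ext W (_root_.ModSite.toAb ((_root_.ModSite.sheafHom X).obj I)) (p + 1)))
    (H : ℤ → AddCommGrpCat.{u})
    (eH : ∀ n : ℕ, Nonempty (AddCommGrpCat.of
      (Ext (((_root_.ModSite.tensorBi O).flip.obj X).obj P) N n) ≅ H n))
    (hH : ∀ n : ℤ, n < 0 → IsZero (H n)) (Pg : ℤ → ℤ → AddCommGrpCat.{u})
    (eP : ∀ p q : ℕ, Nonempty (AddCommGrpCat.of
      (Ext W (_root_.ModSite.toAb ((_root_.ModSite.extSh X q).obj N)) p) ≅ Pg p q))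
    (hP : ∀ p q : ℤ, ¬ (0 ≤ p ∧ 0 ≤ q) → IsZero (Pg p q)) :
    ∃ (E : E₂CohomologicalSpectralSequence AddCommGrpCat.{u}) (a : SpSeq.Abutment E H),
      (∀ n, a.IsFinite n) ∧ SpSeq.IsBounded E ∧
      ∀ p q : ℤ, Nonempty ((E.page 2 le_rfl).X (p, q) ≅ Pg p q) := by
  haveI := additive_flip X
  let e' : homSh X ⋙ homFunctor W ≅ homFunctor (((_root_.ModSite.tensorBi O).flip.obj X).obj P) :=
    Functor.associator _ _ _ ≪≫ Functor.isoWhiskerLeft _ e ≪≫
      compHomIso (_root_.ModSite.sheafHomAdj X) P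
  refine Composite.exists_spectralSequence (homSh X) (homFunctor W)
    (fun I _ p => have : Subsingleton (Ext W ((homSh X).obj I) (p + 1)) := hW I p; isZero_rightDerived_hom _ _ _) N H (fun n => ?_) hH Pg
    (fun p q => ?_) hP
  · exact ⟨Composite.rightDerivedCongr e' n N ≪≫ rightDerivedIso _ N n ≪≫ (eH n).some⟩
  · exact ⟨((homFunctor W).rightDerived p).mapIso (rdExactIso _ _ q N) ≪≫
      rightDerivedIso W _ p ≪≫ (eP p q).some⟩

end Groth.Agent.Lib.ModSS29.SS
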