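import Groth.Agent.Lib.ModSS29.SectHom
import Groth.Agent.Lib.SiteCoh.TotAcyclic
import Groth.Agent.Lib.EtJ.RightAcyclic
import Mathlib.CategoryTheory.Abelian.CommSq
import Mathlib.Algebra.Homology.ShortComplex.Abelian

/-!
# Totally acyclic modules have no higher local cohomology
-/

set_option linter.style.haveILetI false
set_option linter.unusedSectionVars false

universe u

open CategoryTheory Limits Opposite Abelian

namespace Groth.Agent.Lib.ModSS29.TA

open Groth.Agent.Lib.SiteCoh.FreeRes Groth.Agent.Lib.FreeMod OpenFree AbSide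
open Groth.Agent.Lib.ModTensor.Monoidal

variable {C : Type u} [SmallCategory C] {J : GrothendieckTopology C}

lemma mono_freeP {S S' : Cᵒᵖ ⥤ Type u} (f : S ⟶ S') (hf : ∀ W, Function.Injective (f.app W)) :
    Mono ((freeP J).map f) := by
  haveI : ∀ W, Mono (((Functor.whiskeringRight Cᵒᵖ (Type u) AddCommGrpCat.{u}).obj
      AddCommGrpCat.free.{u}).map f |>.app W) := fun W =>
    (AddCommGrpCat.mono_iff_injective _).2 (free_map_injective _ (hf W))
  haveI := NatTrans.mono_of_mono_app (((Functor.whiskeringRight Cᵒᵖ (Type u) AddCommGrpCat.{u}).obj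
      AddCommGrpCat.free.{u}).map f)
  exact (presheafToSheaf J AddCommGrpCat.{u}).map_mono _

variable {F : Sheaf J AddCommGrpCat.{u}} (hF : CohCx.IsTotallyAcyclic F)
  {S S' : Cᵒᵖ ⥤ Type u} (f : S ⟶ S') [hm : Mono ((freeP J).map f)]

include hF hm

/-- Sections of a totally acyclic sheaf extend along monomorphisms (glue two copies). -/
theorem exists_extension (y : (freeP J).obj S ⟶ F) : ∃ y', (freeP J).map f ≫ y' = y := by
  haveI : (freeP J).IsLeftAdjoint := (TotAcyclic.freePAdj (J := J)).isLeftAdjoint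
  have h := (IsPushout.of_hasPushout f f).map (freeP J)
  haveI : Mono h.shortComplex.f := by
    have hm' := hm
    refine ⟨fun a b e => hm.right_cancellation a b ?_⟩
    have e' := congrArg (· ≫ biprod.fst) e
    simpa [CommSq.shortComplex] using e'
  have hS : h.shortComplex.ShortExact :=
    { exact := h.exact_shortComplex, mono_f := inferInstance, epi_g := h.epi_shortComplex_g }
  have h0 : hS.extClass.comp (Ext.mk₀ y) (add_zero 1) = 0 :=
    (subsingleton_ext_free J hF _ 0).elim _ _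
  obtain ⟨z, hz⟩ := Ext.contravariant_sequence_exact₁ hS F (Ext.mk₀ y) (add_zero 1) h0
  obtain ⟨z, rfl⟩ := (Ext.mk₀_bijective _ _).2 z
  rw [Ext.mk₀_comp_mk₀] at hz
  have h1 : biprod.lift ((freeP J).map f) (-(freeP J).map f) ≫ z = y := (Ext.mk₀_bijective _ _).1 hz
  refine ⟨biprod.inl ≫ z - biprod.inr ≫ z, ?_⟩
  rw [← h1, biprod.lift_eq, Preadditive.add_comp, Preadditive.comp_sub, Category.assoc,
    Category.assoc, Preadditive.neg_comp, ← sub_eq_add_neg]

/-- Higher cohomology relative to a monomorphism vanishes. -/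
theorem subsingleton_ext (p : ℕ) : Subsingleton (Ext (cokernel ((freeP J).map f)) F (p + 1)) := by
  let Sq : ShortComplex (Sheaf J AddCommGrpCat.{u}) :=
    ShortComplex.mk ((freeP J).map f) (cokernel.π _) (cokernel.condition _)
  have hS : Sq.ShortExact := { exact := ShortComplex.exact_of_g_is_cokernel _ (cokernelIsCokernel _) }
  refine subsingleton_of_forall_eq 0 fun x => ?_
  have hx : (Ext.mk₀ Sq.g).comp x (zero_add (p + 1)) = 0 :=
    (subsingleton_ext_free J hF _ p).elim _ _
  obtain ⟨y, hy⟩ := Ext.contravariant_sequence_exact₃ hS F x hx (add_comm 1 p)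
  rw [← hy]
  cases p with
  | zero =>
    obtain ⟨t, rfl⟩ := (Ext.mk₀_bijective _ _).2 y
    obtain ⟨t', ht'⟩ := exists_extension hF f t
    rw [← ht', ← Ext.mk₀_comp_mk₀]
    exact hS.extClass_comp_assoc _
  | succ p =>
    have : y = 0 := (subsingleton_ext_free J hF _ p).elim _ _
    rw [this, Ext.comp_zero]

omit hF hm

/-- Total acyclicity is invariant under isomorphisms. -/
lemma ta_of_iso {F' : Sheaf J AddCommGrpCat.{u}} (e : F ≅ F') (h : CohCx.IsTotallyAcyclic F) :
    CohCx.IsTotallyAcyclic F' := fun K p =>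
  @Equiv.subsingleton _ _ ((Abelian.extFunctorObj _ (p + 1)).mapIso e).symm.addCommGroupIsoToAddEquiv.toEquiv (h K p)

variable (O : Sheaf J CommRingCat.{u})

/-- Injective modules are totally acyclic. -/
lemma ta_injective (I : _root_.ModSite.Mod O) [Injective I] :
    CohCx.IsTotallyAcyclic (_root_.ModSite.toAb I) := by
  haveI := ModTensor.ModSite.hasSheafHom (_root_.ModSite.unit O)
  let i : 𝟭 (_root_.ModSite.Mod O) ≅ _root_.ModSite.sheafHom (_root_.ModSite.unit O) :=
    SS.radjIso Adjunction.id (_root_.ModSite.sheafHomAdj _) ModTensor.ModSite.flipUnitIso.symm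
  exact ta_of_iso ((SheafOfModules.toSheaf _).mapIso (i.app I).symm)
    (TotAcyclic.isTotallyAcyclic_sheafHom O (_root_.ModSite.unit O) I)

variable (U : C)

/-- Arrows to `W` from objects mapping to `U`. -/
def subW (W : C) : Subfunctor (yoneda.obj W) where
  obj W' := {_g | Nonempty (W'.unop ⟶ U)}
  map := fun {X Y} h _g ⟨a⟩ => ⟨h.unop ≫ a⟩

lemma mono_subW (W : C) : Mono ((freeP J).map (subW U W).ι) :=
  mono_freeP _ fun _ => Subtype.val_injective

/-- A map from a free module vanishing on generators over `U` vanishes on `U`. -/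
lemma restr_eq_zero {P : PM.{u, u, u} O} {N : _root_.ModSite.Mod O} (k : (L.{u, u, u} O).obj P ⟶ N)
    (hk : ∀ W : Cᵒᵖ, Nonempty (W.unop ⟶ U) → ∀ z,
      ((adj.{u, u, u} O).homEquiv _ _ k).app W z = 0) :
    (_root_.ModSite.restr O U).map k = 0 := by
  rw [restr_map_eq_zero_iff]
  rintro ⟨W⟩ hW x
  obtain ⟨a⟩ := (nonempty_V_iff J U W).1 hW
  obtain ⟨_, hsur⟩ := (isIso_map_iff ((adj.{u, u, u} O).unit.app P)).1 inferInstance
  refine (N.isSheaf).isSeparated W _ (Presheaf.imageSieve_mem J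
    ((PresheafOfModules.toPresheaf _).map ((adj.{u, u, u} O).unit.app P)) (U := op W) x) _ 0 ?_
  rintro W' g ⟨z, hz⟩
  refine Eq.trans ?_ (map_zero (N.val.presheaf.map g.op).hom).symm
  refine ((PresheafOfModules.naturality_apply k.val g.op x).symm.trans
    ((congrArg (k.val.app (op W')) hz.symm).trans ?_))
  exact (congrArg (fun ψ => ψ.app (op W') z) ((adj.{u, u, u} O).homEquiv_unit _ _ k).symm).trans
    (hk (op W') ⟨g ≫ a⟩ z)

variable [_root_.ModSite.HasPushOver O U]

lemma restr_sectOnι (N : _root_.ModSite.Mod O) :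
    (_root_.ModSite.restr O U).map ((_root_.ModSite.sectOnι O U).app N) = 0 :=
  (comp_unit_eq_zero_iff U O _).1 (kernel.condition _)

lemma free_comp_eq_zero (W : C) {N : _root_.ModSite.Mod O}
    (y : (Basic.FrP O).obj (yoneda.obj W) ⟶ (_root_.ModSite.sectOn O U).obj N) :
    (Basic.FrP O).map (subW U W).ι ≫ (y ≫ (_root_.ModSite.sectOnι O U).app N) = 0 := by
  apply ((Basic.frAdj O).homEquiv _ _).injective
  rw [Adjunction.homEquiv_naturality_left, Adjunction.homEquiv_naturality_right]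
  ext W' ⟨g, hg⟩
  have h := (restr_map_eq_zero_iff U O _).1 (restr_sectOnι O U N) W'
    ((nonempty_V_iff J U W'.unop).2 hg) (((Basic.frAdj O).homEquiv _ _ y).app W' g)
  refine h.trans ?_
  rw [Adjunction.homEquiv_unit]
  rfl

lemma restr_comp_eq_zero (W : C) {N : _root_.ModSite.Mod O}
    (k : (Basic.FrP O).obj (yoneda.obj W) ⟶ N) (hk : (Basic.FrP O).map (subW U W).ι ≫ k = 0) :
    (_root_.ModSite.restr O U).map k = 0 := by
  refine restr_eq_zero O U k fun W' hW' z => ?_
  have h1 : (Basic.freePre O).map (subW U W).ι ≫ (adj.{u, u, u} O).homEquiv _ _ k = 0 := by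
    refine ((adj.{u, u, u} O).homEquiv_naturality_left _ _).symm.trans ?_
    refine (congrArg ((adj.{u, u, u} O).homEquiv _ _) hk).trans ?_
    haveI := additive_L O
    exact (adj.{u, u, u} O).homAddEquiv_zero _ _
  have h2 : Function.Surjective (((Basic.freePre O).map (subW U W).ι).app W') := by
    intro z
    exact Finsupp.mapDomain_surjective (fun g => ⟨⟨g, hW'⟩, rfl⟩) z
  obtain ⟨z', rfl⟩ := h2 z
  exact congrArg (fun ψ => ψ.app W' z') h1

lemma natural_cokerEquiv_symm {S S' : Cᵒᵖ ⥤ Type u} (f : S ⟶ S') {M N : _root_.ModSite.Mod O}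
    (g : M ⟶ N) (w : cokernel ((freeP J).map f) ⟶ _root_.ModSite.toAb M) :
    (cokerEquiv O f M).symm w ≫ g =
      (cokerEquiv O f N).symm (w ≫ (SheafOfModules.toSheaf _).map g) := by
  have h := ConcreteCategory.congr_hom ((cokerNatIso O f).hom.naturality g) w
  exact h.symm

/-- Maps out of relative free modules lift along epimorphisms with totally acyclic kernel. -/
theorem exists_lift {S S' : Cᵒᵖ ⥤ Type u} (f : S ⟶ S') [Mono ((freeP J).map f)]
    (T : ShortComplex (_root_.ModSite.Mod O)) (hT : T.ShortExact)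
    (h₁ : CohCx.IsTotallyAcyclic (_root_.ModSite.toAb T.X₁))
    (z : cokernel ((Basic.FrP O).map f) ⟶ T.X₃) : ∃ z₂, z₂ ≫ T.g = z := by
  have hT' := hT.map_of_exact (SheafOfModules.toSheaf (_root_.ModSite.ringSh O))
  have h0 : (Ext.mk₀ (cokerEquiv O f T.X₃ z)).comp hT'.extClass (zero_add 1) = 0 :=
    (subsingleton_ext h₁ f 0).elim _ _
  obtain ⟨w, hw⟩ := Ext.covariant_sequence_exact₃ (cokernel ((freeP J).map f)) hT'
    (Ext.mk₀ (cokerEquiv O f T.X₃ z)) (zero_add 1) h0
  obtain ⟨w, rfl⟩ := (Ext.mk₀_bijective _ _).2 w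
  rw [Ext.mk₀_comp_mk₀] at hw
  have hw' : w ≫ (SheafOfModules.toSheaf _).map T.g = cokerEquiv O f T.X₃ z :=
    (Ext.mk₀_bijective _ _).1 hw
  exact ⟨(cokerEquiv O f T.X₂).symm w, (natural_cokerEquiv_symm O f T.g w).trans
    ((congrArg (cokerEquiv O f T.X₃).symm hw').trans ((cokerEquiv O f T.X₃).symm_apply_apply z))⟩

lemma exists_lift_sectOn (W : C) (T : ShortComplex (_root_.ModSite.Mod O)) (hT : T.ShortExact)
    (h₁ : CohCx.IsTotallyAcyclic (_root_.ModSite.toAb T.X₁))
    (y : (Basic.FrP O).obj (yoneda.obj W) ⟶ (_root_.ModSite.sectOn O U).obj T.X₃) :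
    ∃ y₂, y₂ ≫ (_root_.ModSite.sectOn O U).map T.g = y := by
  let ι₃ := (_root_.ModSite.sectOnι O U).app T.X₃
  haveI := mono_subW (J := J) U W
  obtain ⟨z₂, hz⟩ := exists_lift O (subW U W).ι T hT h₁
    (cokernel.desc _ (y ≫ ι₃) (free_comp_eq_zero O U W y))
  have hk₂ : (_root_.ModSite.restr O U).map (cokernel.π ((Basic.FrP O).map (subW U W).ι) ≫ z₂) = 0 :=
    restr_comp_eq_zero O U W _ ((cokernel.condition_assoc _ _).trans zero_comp)
  refine ⟨kernel.lift _ _ ((comp_unit_eq_zero_iff U O _).2 hk₂), ?_⟩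
  haveI : Mono ι₃ := inferInstanceAs (Mono (kernel.ι _))
  refine (cancel_mono ι₃).1 ((Category.assoc _ _ _).trans ?_)
  refine (congrArg (kernel.lift _ _ _ ≫ ·) ((_root_.ModSite.sectOnι O U).naturality T.g)).trans ?_
  refine ((Category.assoc _ _ _).symm.trans (congrArg (· ≫ T.g) (kernel.lift_ι _ _ _))).trans ?_
  exact (Category.assoc _ _ _).trans ((congrArg _ hz).trans (cokernel.π_desc _ _ _))

lemma surjective_of_lift (W : C) {M N : _root_.ModSite.Mod O} (g : M ⟶ N)
    (h : ∀ y : (Basic.FrP O).obj (yoneda.obj W) ⟶ N, ∃ y₂, y₂ ≫ g = y) :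
    Function.Surjective (((Basic.toSets O).map g).app (op W)) := fun s => by
  obtain ⟨y₂, hy⟩ := h (((Basic.frAdj O).homEquiv _ _).symm (yonedaEquiv.symm s))
  refine ⟨yonedaEquiv ((Basic.frAdj O).homEquiv _ _ y₂), ?_⟩
  have e := congrArg (fun t => yonedaEquiv ((Basic.frAdj O).homEquiv _ _ t)) hy
  simp only [Adjunction.homEquiv_naturality_right, Equiv.apply_symm_apply] at e
  rw [← yonedaEquiv_comp]
  exact e

/-- `Γ_Z` preserves epimorphisms with totally acyclic kernel. -/
theorem epi_sectOn_map (S : ShortComplex (_root_.ModSite.Mod O)) (hS : S.ShortExact)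
    (h₁ : CohCx.IsTotallyAcyclic (_root_.ModSite.toAb S.X₁)) :
    Epi ((_root_.ModSite.sectOn O U).map S.g) := by
  apply (SheafOfModules.toSheaf _).epi_of_epi_map
  refine (Sheaf.isLocallySurjective_iff_epi' _ _).1 ?_
  refine Presheaf.isLocallySurjective_of_surjective J
    ((SheafOfModules.toSheaf _).map ((_root_.ModSite.sectOn O U).map S.g)).hom ?_
  rintro ⟨W⟩
  exact surjective_of_lift O W _ (exists_lift_sectOn O U W S hS h₁)

variable [HasInjectiveResolutions (_root_.ModSite.Mod O)]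

/-- Totally acyclic modules have no higher local cohomology sheaves. -/
theorem isZero_HZsh (M : _root_.ModSite.Mod O) (hM : CohCx.IsTotallyAcyclic (_root_.ModSite.toAb M))
    (k : ℕ) : IsZero ((_root_.ModSite.HZsh O U (k + 1)).obj M) := by
  let P := injectiveResolution M
  let Γ := _root_.ModSite.sectOn O U
  haveI : Γ.IsRightAdjoint := (adjQ U O).isRightAdjoint
  have hcyc : ∀ j, CohCx.IsTotallyAcyclic (_root_.ModSite.toAb (EtJ.RightAcyclic.cyc P j)) := fun j => by
    induction j with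
    | zero => exact ta_of_iso ((SheafOfModules.toSheaf _).mapIso (EtJ.RightAcyclic.isoCyc₀ P)) hM
    | succ j ih =>
      exact SiteCoh.TotAcyclic.isTotallyAcyclic_X₃
        ((EtJ.RightAcyclic.seq_shortExact P j).map_of_exact (SheafOfModules.toSheaf _)) ih
        (ta_injective O (P.cocomplex.X j))
  refine IsZero.of_iso ?_ (P.isoRightDerivedObj Γ (k + 1))
  refine (HomologicalComplex.exactAt_iff_isZero_homology _ _).1
    ((HomologicalComplex.exactAt_iff' _ k (k + 1) (k + 2) (by simp) (by simp)).2 ?_)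
  let E₁ := ShortComplex.mk (Γ.map (EtJ.RightAcyclic.seq P (k + 1)).f)
    (Γ.map (P.cocomplex.d (k + 1) (k + 2)))
    (by rw [← Γ.map_comp]; exact (congrArg Γ.map (kernel.condition _)).trans (Γ.map_zero _ _))
  have hE₁ : E₁.Exact := ShortComplex.exact_of_f_is_kernel _
    (KernelFork.mapIsLimit _ (kernelIsKernel (P.cocomplex.d (k + 1) (k + 2))) Γ)
  let φ : ((Γ.mapHomologicalComplex _).obj P.cocomplex).sc' k (k + 1) (k + 2) ⟶ E₁ :=
    { τ₁ := Γ.map (EtJ.RightAcyclic.seq P k).g
      τ₂ := 𝟙 _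
      τ₃ := 𝟙 _
      comm₁₂ := ((Γ.map_comp _ _).symm.trans (congrArg Γ.map (kernel.lift_ι _ _ _))).trans
        (Category.comp_id _).symm
      comm₂₃ := (Category.id_comp _).trans (Category.comp_id _).symm }
  haveI : Epi φ.τ₁ := epi_sectOn_map O U _ (EtJ.RightAcyclic.seq_shortExact P k) (hcyc k)
  haveI : IsIso φ.τ₂ := inferInstanceAs (IsIso (𝟙 _))
  haveI : Mono φ.τ₃ := inferInstanceAs (Mono (𝟙 _))
  exact (ShortComplex.exact_iff_of_epi_of_isIso_of_mono φ).2 hE₁

omit [HasInjectiveResolutions (_root_.ModSite.Mod O)] [_root_.ModSite.HasPushOver O U] in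
/-- Totally acyclic modules have no higher cohomology with supports. -/
theorem subsingleton_HZ (M : _root_.ModSite.Mod O) (hM : CohCx.IsTotallyAcyclic (_root_.ModSite.toAb M))
    (k : ℕ) : Subsingleton (_root_.ModSite.HZ U M (k + 1)) :=
  subsingleton_of_iso J (quotZIso J U).symm _ (subsingleton_ext hM (ι J U) k)

end Groth.Agent.Lib.ModSS29.TA
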