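import Groth.Prelude.Def_ExtSupp
import Groth.Agent.Lib.FreeMod.Basic
import Groth.Agent.Lib.ModTensor.ModSite
import Groth.Agent.Lib.ModTensor.Flat
import Mathlib.CategoryTheory.Subfunctor.Image
import Mathlib.CategoryTheory.Adjunction.Additive

/-!
# The module `O_Z` of the closed complement of the open generated by an object, and `Γ_Z`
-/

set_option linter.style.haveILetI false
set_option linter.unusedSectionVars false

universe u

open CategoryTheory Limits Opposite MonoidalCategory

namespace Groth.Agent.Lib.ModSS29.OpenFree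

open Groth.Agent.Lib.ModTensor.Monoidal Groth.Agent.Lib.FreeMod

variable {C : Type u} [SmallCategory C] (J : GrothendieckTopology C)

/-- The presheaf underlying the final sheaf. -/
noncomputable abbrev T : Cᵒᵖ ⥤ Type u := (⊤_ (Sheaf J (Type u))).obj

/-- It is final. -/
noncomputable def isTerminalT : IsTerminal (T J) :=
  IsTerminal.isTerminalObj (sheafToPresheaf J (Type u)) _ terminalIsTerminal

noncomputable instance uniqueT (W : Cᵒᵖ) : Unique ((T J).obj W) :=
  Types.isTerminalEquivUnique _ ((isTerminalT J).isTerminalObj ((evaluation Cᵒᵖ (Type u)).obj W))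

variable (U : C)

/-- The map from the presheaf represented by `U`. -/
noncomputable abbrev toT : yoneda.obj U ⟶ T J := (isTerminalT J).from _

/-- The open generated by `U`, as a presheaf of sets. -/
noncomputable abbrev V : Cᵒᵖ ⥤ Type u := (Subfunctor.range (toT J U)).toFunctor

/-- Its inclusion in the final object. -/
noncomputable abbrev ι : V J U ⟶ T J := (Subfunctor.range (toT J U)).ι

instance (W : Cᵒᵖ) : Subsingleton ((V J U).obj W) :=
  ⟨fun a b => Subtype.ext (Subsingleton.elim a.1 b.1)⟩

lemma nonempty_V_iff (W : C) : Nonempty ((V J U).obj (op W)) ↔ Nonempty (W ⟶ U) := by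
  constructor
  · rintro ⟨⟨_, a, _⟩⟩
    exact ⟨a⟩
  · rintro ⟨a⟩
    exact ⟨⟨(toT J U).app (op W) a, a, rfl⟩⟩

variable {J} (O : Sheaf J CommRingCat.{u})

/-- The augmentation of a free presheaf of modules. -/
noncomputable def aug (S : Cᵒᵖ ⥤ Type u) :
    (Basic.freePre O).obj S ⟶ (G.{u, u, u} O).obj (_root_.ModSite.unit O) :=
  PresheafOfModules.freeObjDesc
    { app := fun W => ↾fun _ => (1 : O.obj.obj W)
      naturality := fun {W W'} f => by
        ext x
        exact (map_one (O.obj.map f).hom).symm }

lemma aug_app_single (S : Cᵒᵖ ⥤ Type u) (W : Cᵒᵖ) (s : S.obj W) :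
    (aug O S).app W (ModuleCat.freeMk s) = (1 : O.obj.obj W) :=
  ModuleCat.freeDesc_apply _ _

lemma map_comp_aug {S S' : Cᵒᵖ ⥤ Type u} (f : S ⟶ S') :
    (Basic.freePre O).map f ≫ aug O S' = aug O S := by
  ext W : 1
  refine ModuleCat.free_hom_ext ?_
  intro s
  change (aug O S').app W (((ModuleCat.free _).map (f.app W)) (ModuleCat.freeMk s)) =
    (aug O S).app W (ModuleCat.freeMk s)
  rw [ModuleCat.free_map_apply, aug_app_single, aug_app_single]

lemma bijective_aug_app (S : Cᵒᵖ ⥤ Type u) (W : Cᵒᵖ) (s : S.obj W) [Subsingleton (S.obj W)] :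
    Function.Bijective ((aug O S).app W) := by
  have key : ∀ z : S.obj W →₀ O.obj.obj W, (aug O S).app W z = z s := by
    intro z
    change z.sum (fun _ r => r * (1 : O.obj.obj W)) = z s
    have hz : z = Finsupp.single s (z s) := Finsupp.ext fun t => by
      rw [Subsingleton.elim t s, Finsupp.single_eq_same]
    conv_lhs => rw [hz]
    rw [Finsupp.sum_single_index (zero_mul _), mul_one]
  constructor
  · intro a b hab
    refine Finsupp.ext fun t => ?_
    rw [Subsingleton.elim t s]
    exact (key a).symm.trans (hab.trans (key b))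
  · intro r
    exact ⟨(Finsupp.single s r : S.obj W →₀ O.obj.obj W), (key _).trans (by simp)⟩

lemma injective_aug_app (S : Cᵒᵖ ⥤ Type u) (W : Cᵒᵖ) [Subsingleton (S.obj W)] :
    Function.Injective ((aug O S).app W) := by
  by_cases h : Nonempty (S.obj W)
  · exact (bijective_aug_app O S W h.some).1
  · intro a b _
    exact Finsupp.ext fun t => (h ⟨t⟩).elim

lemma comp_eq_zero_iff_of_epi {A : Type*} [Category A] [HasZeroMorphisms A] {X Y Z : A}
    {f : X ⟶ Y} [Epi f] {g : Y ⟶ Z} : f ≫ g = 0 ↔ g = 0 := by
  rw [← cancel_epi f (g := g) (h := 0), comp_zero]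

lemma additive_L : (L.{u, u, u} O).Additive := by
  haveI := (adj.{u, u, u} O).leftAdjoint_preservesColimits
  haveI := preservesBinaryBiproducts_of_preservesBinaryCoproducts (L.{u, u, u} O)
  exact Functor.additive_of_preservesBinaryBiproducts _

lemma additive_extZero : (_root_.ModSite.extZero O U).Additive :=
  (_root_.ModSite.extZeroAdj O U).left_adjoint_additive

/-- The augmentation of a free sheaf of modules. -/
noncomputable def ε (S : Cᵒᵖ ⥤ Type u) : (Basic.FrP O).obj S ⟶ _root_.ModSite.unit O :=
  ((adj.{u, u, u} O).homEquiv _ _).symm (aug O S)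

lemma ε_eq (S : Cᵒᵖ ⥤ Type u) :
    ε O S = (L.{u, u, u} O).map (aug O S) ≫ (adj.{u, u, u} O).counit.app _ :=
  (adj.{u, u, u} O).homEquiv_counit _ _ _

lemma map_comp_ε {S S' : Cᵒᵖ ⥤ Type u} (f : S ⟶ S') :
    (Basic.FrP O).map f ≫ ε O S' = ε O S := by
  refine ((adj.{u, u, u} O).homEquiv_naturality_left_symm _ _).symm.trans ?_
  exact congrArg ((adj.{u, u, u} O).homEquiv _ _).symm (map_comp_aug O f)

instance isIso_εT : IsIso (ε O (T J)) := by
  haveI : ∀ W, IsIso ((aug O (T J)).app W) := fun W =>
    (ConcreteCategory.isIso_iff_bijective _).2 (bijective_aug_app O (T J) W default)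
  haveI : IsIso (aug O (T J)) :=
    haveI : IsIso ((PresheafOfModules.toPresheaf _).map (aug O (T J))) := by
      rw [NatTrans.isIso_iff_isIso_app]
      exact fun W => (ConcreteCategory.isIso_iff_bijective _).2 (bijective_aug_app O (T J) W default)
    isIso_of_reflects_iso (aug O (T J)) (PresheafOfModules.toPresheaf _)
  haveI := isIso_counit.{u, u, u} O
  rw [ε_eq]
  exact IsIso.comp_isIso' (Functor.map_isIso (L.{u, u, u} O) (aug O (T J))) (NatIso.isIso_app_of_isIso _ _)

/-- The unit law for the tensor product, naturally in the right factor. -/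
noncomputable def unitIso : (_root_.ModSite.tensorBi O).obj (_root_.ModSite.unit O) ≅ 𝟭 _ :=
  ModTensor.ModSite.tensorBiObjIso _ ≪≫ tenLeftUnitIso.{u, u, u} (O := O)

/-- The map `P ⊗ X ⟶ X` of an augmentation. -/
noncomputable def aP (S : Cᵒᵖ ⥤ Type u) :
    (_root_.ModSite.tensorBi O).obj ((Basic.FrP O).obj S) ⟶ 𝟭 _ :=
  (_root_.ModSite.tensorBi O).map (ε O S) ≫ (unitIso O).hom

/-- Its presheaf form. -/
noncomputable def augT (S : Cᵒᵖ ⥤ Type u) (X : _root_.ModSite.Mod O) :
    (Basic.freePre O).obj S ⊗ (G.{u, u, u} O).obj X ⟶ (G.{u, u, u} O).obj X :=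
  aug O S ▷ _ ≫ (λ_ _).hom

lemma augT_app_tmul (S : Cᵒᵖ ⥤ Type u) (X : _root_.ModSite.Mod O) (W : Cᵒᵖ)
    (z : S.obj W →₀ O.obj.obj W) (x : X.val.obj W) :
    (augT O S X).app W (TensorProduct.tmul (O.obj.obj W) z x) = ((aug O S).app W z : O.obj.obj W) • x :=
  rfl

lemma sheafify_whisker_comp_aP (S : Cᵒᵖ ⥤ Type u) (X : _root_.ModSite.Mod O) :
    (L.{u, u, u} O).map ((adj.{u, u, u} O).unit.app ((Basic.freePre O).obj S) ▷ (G.{u, u, u} O).obj X) ≫
        (aP O S).app X = ((adj.{u, u, u} O).homEquiv _ _).symm (augT O S X) := by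
  have h : (aP O S).app X = (L.{u, u, u} O).map ((G.{u, u, u} O).map (ε O S) ▷ (G.{u, u, u} O).obj X) ≫
      (L.{u, u, u} O).map (λ_ ((G.{u, u, u} O).obj X)).hom ≫ (adj.{u, u, u} O).counit.app X := by
    simp [aP, unitIso, _root_.ModSite.tensorBi, ModTensor.ModSite.tensorBiObjIso, tenLeftUnitIso,
      counitIso]
    rfl
  have e : (adj.{u, u, u} O).unit.app ((Basic.freePre O).obj S) ≫ (G.{u, u, u} O).map (ε O S) = aug O S :=
    ((adj.{u, u, u} O).homEquiv_unit _ _ _).symm.trans (Equiv.apply_symm_apply _ _)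
  have e₂ : (adj.{u, u, u} O).unit.app ((Basic.freePre O).obj S) ▷ (G.{u, u, u} O).obj X ≫
      (G.{u, u, u} O).map (ε O S) ▷ (G.{u, u, u} O).obj X = aug O S ▷ (G.{u, u, u} O).obj X :=
    (MonoidalCategory.comp_whiskerRight _ _ _).symm.trans (congrArg (· ▷ _) e)
  rw [h, Adjunction.homEquiv_counit]
  refine Eq.trans ?_ (congrArg (· ≫ _) ((L.{u, u, u} O).map_comp (aug O S ▷ _) (λ_ _).hom).symm)
  rw [← e₂, Functor.map_comp]
  simp only [Category.assoc]
  rfl

/-- `P ⊗ X ⟶ X ⟶ N` is zero iff `X ⟶ N` is zero where the presheaf is nonempty. -/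
lemma aP_comp_eq_zero_iff (S : Cᵒᵖ ⥤ Type u) {X N : _root_.ModSite.Mod O} (g : X ⟶ N) :
    (aP O S).app X ≫ g = 0 ↔ ∀ W : Cᵒᵖ, Nonempty (S.obj W) → ∀ x : X.val.obj W, g.val.app W x = 0 := by
  haveI := isIso_map_whiskerRight ((adj.{u, u, u} O).unit.app ((Basic.freePre O).obj S)) ((G.{u, u, u} O).obj X)
  refine ((comp_eq_zero_iff_of_epi (f := (L.{u, u, u} O).map
    ((adj.{u, u, u} O).unit.app ((Basic.freePre O).obj S) ▷ (G.{u, u, u} O).obj X))).symm).trans ?_
  refine Iff.trans (b := augT O S X ≫ (G.{u, u, u} O).map g = 0) ?_ ?_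
  · have e := congrArg (· ≫ g) (sheafify_whisker_comp_aP O S X)
    refine (Iff.of_eq (congrArg (· = 0) ((Category.assoc _ _ _).symm.trans (e.trans
      (((adj.{u, u, u} O).homEquiv_naturality_right_symm _ g).symm))))).trans ?_
    haveI := additive_L O
    constructor
    · intro h
      refine ((adj.{u, u, u} O).homEquiv _ _).symm.injective (h.trans ?_)
      exact ((adj.{u, u, u} O).homAddEquiv_symm_zero _ _).symm
    · intro h
      rw [h]
      exact (adj.{u, u, u} O).homAddEquiv_symm_zero _ _
  · constructor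
    · rintro h W ⟨s⟩ x
      have := congrArg (fun φ => φ.app W (TensorProduct.tmul (O.obj.obj W)
        (ModuleCat.freeMk (R := (rs.{u, u, u} O).obj.obj W) s) x)) h
      refine Eq.trans ?_ this
      change g.val.app W x = g.val.app W (((aug O S).app W (ModuleCat.freeMk s) : O.obj.obj W) • x)
      exact (congrArg (g.val.app W) ((congrArg (fun r : O.obj.obj W => r • x) (aug_app_single O S W s)).trans (one_smul _ x))).symm
    · intro h
      ext W z
      induction z using TensorProduct.induction_on with
      | zero => exact map_zero _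
      | tmul a x =>
        change g.val.app W (((aug O S).app W a : O.obj.obj W) • x) = 0
        by_cases hne : Nonempty (S.obj W)
        · exact h W hne _
        · obtain rfl : a = 0 := Finsupp.ext fun t => (hne ⟨t⟩).elim
          exact (congrArg (g.val.app W) ((congrArg (fun r : O.obj.obj W => r • x) (map_zero ((aug O S).app W).hom)).trans (zero_smul _ x))).trans (map_zero _)
      | add a b ha hb =>
        exact (map_add _ _ _).trans ((congrArg₂ (· + ·) ha hb).trans (add_zero _))

/-- The restriction of `g` to `C/U` vanishes iff `g` vanishes over every object mapping to `U`. -/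
lemma restr_map_eq_zero_iff {X N : _root_.ModSite.Mod O} (g : X ⟶ N) :
    (_root_.ModSite.restr O U).map g = 0 ↔
      ∀ W : Cᵒᵖ, Nonempty ((V J U).obj W) → ∀ x : X.val.obj W, g.val.app W x = 0 := by
  constructor
  · rintro h ⟨W⟩ hW x
    obtain ⟨a⟩ := (nonempty_V_iff J U W).1 hW
    exact congrArg (fun ψ => (ψ.val.app (op (Over.mk a))) x) h
  · intro h
    apply (SheafOfModules.toSheaf _).map_injective
    ext Y m
    exact h (op (unop Y).left) ((nonempty_V_iff J U _).2 ⟨(unop Y).hom⟩) m

/-- `O_U ⊗ X ⟶ X ⟶ N` vanishes iff `X ⟶ N` vanishes on `U`. -/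
lemma aU_comp_eq_zero_iff {X N : _root_.ModSite.Mod O} (g : X ⟶ N) :
    (aP O (V J U)).app X ≫ g = 0 ↔ (_root_.ModSite.restr O U).map g = 0 :=
  (aP_comp_eq_zero_iff O _ g).trans (restr_map_eq_zero_iff U O g).symm

/-- The module `O_Z = O/O_U`. -/
noncomputable def Q : _root_.ModSite.Mod O := cokernel (ε O (V J U))

/-- The functor `X ↦ O_Z ⊗ X`. -/
noncomputable abbrev Qt : _root_.ModSite.Mod O ⥤ _root_.ModSite.Mod O :=
  (_root_.ModSite.tensorBi O).obj (Q U O)

/-- The projection `X ⟶ O_Z ⊗ X`. -/
noncomputable def p : 𝟭 (_root_.ModSite.Mod O) ⟶ Qt U O :=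
  (unitIso O).inv ≫ (_root_.ModSite.tensorBi O).map (cokernel.π (ε O (V J U)))

lemma aP_comp_p (X : _root_.ModSite.Mod O) : (aP O (V J U)).app X ≫ (p U O).app X = 0 := by
  simp only [aP, p, NatTrans.comp_app, Category.assoc, Iso.hom_inv_id_app_assoc]
  change ((_root_.ModSite.tensorBi O).flip.obj X).map (ε O (V J U)) ≫
    ((_root_.ModSite.tensorBi O).flip.obj X).map (cokernel.π (ε O (V J U))) = 0
  rw [← Functor.map_comp, cokernel.condition]
  haveI := preservesBinaryBiproducts_of_preservesBinaryCoproducts ((_root_.ModSite.tensorBi O).flip.obj X)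
  haveI := Functor.additive_of_preservesBinaryBiproducts ((_root_.ModSite.tensorBi O).flip.obj X)
  exact Functor.map_zero _ _ _

/-- The sequence `O_U ⊗ X ⟶ X ⟶ O_Z ⊗ X ⟶ 0` is a cokernel sequence. -/
noncomputable def isColimitP (X : _root_.ModSite.Mod O) :
    IsColimit (CokernelCofork.ofπ ((p U O).app X) (aP_comp_p U O X)) := by
  haveI := preservesBinaryBiproducts_of_preservesBinaryCoproducts ((_root_.ModSite.tensorBi O).flip.obj X)
  haveI := Functor.additive_of_preservesBinaryBiproducts ((_root_.ModSite.tensorBi O).flip.obj X)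
  have h := CokernelCofork.mapIsColimit _ (cokernelIsCokernel (ε O (V J U)))
    ((_root_.ModSite.tensorBi O).flip.obj X)
  haveI : Epi ((p U O).app X) :=
    epi_comp' (inferInstanceAs (Epi ((unitIso O).inv.app X)))
      (Cofork.IsColimit.epi h)
  refine CokernelCofork.IsColimit.ofπ' _ _ fun {N} g hg => ?_
  let d := CokernelCofork.IsColimit.desc' h ((unitIso O).hom.app X ≫ g)
    ((Category.assoc _ _ _).symm.trans hg)
  refine ⟨d.1, ?_⟩
  have hd : ((_root_.ModSite.tensorBi O).map (cokernel.π (ε O (V J U)))).app X ≫ d.1 =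
      (unitIso O).hom.app X ≫ g := d.2
  change ((unitIso O).inv.app X ≫ ((_root_.ModSite.tensorBi O).map _).app X) ≫ d.1 = g
  rw [Category.assoc, hd, Iso.inv_hom_id_app_assoc]

instance epi_p (X : _root_.ModSite.Mod O) : Epi ((p U O).app X) :=
  Cofork.IsColimit.epi (isColimitP U O X)

lemma restr_map_p (X : _root_.ModSite.Mod O) :
    (_root_.ModSite.restr O U).map ((p U O).app X) = 0 :=
  (aU_comp_eq_zero_iff U O _).1 (aP_comp_p U O X)

/-- Descent of a map vanishing on `U`. -/
noncomputable def descP {X N : _root_.ModSite.Mod O} (g : X ⟶ N)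
    (hg : (_root_.ModSite.restr O U).map g = 0) : (Qt U O).obj X ⟶ N :=
  (CokernelCofork.IsColimit.desc' (isColimitP U O X) g ((aU_comp_eq_zero_iff U O g).2 hg)).1

@[reassoc (attr := simp)]
lemma p_descP {X N : _root_.ModSite.Mod O} (g : X ⟶ N)
    (hg : (_root_.ModSite.restr O U).map g = 0) : (p U O).app X ≫ descP U O g hg = g :=
  (CokernelCofork.IsColimit.desc' (isColimitP U O X) g ((aU_comp_eq_zero_iff U O g).2 hg)).2

lemma restr_map_quotOnπ (X : _root_.ModSite.Mod O) :
    (_root_.ModSite.restr O U).map ((_root_.ModSite.quotOnπ O U).app X) = 0 := by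
  apply ((_root_.ModSite.extZeroAdj O U).homEquiv _ _).symm.injective
  haveI := additive_extZero U O
  rw [Adjunction.homEquiv_counit, Adjunction.homAddEquiv_symm_zero]
  exact ((_root_.ModSite.extZeroAdj O U).counit_naturality _).trans (cokernel.condition _)

lemma counit_comp_p (X : _root_.ModSite.Mod O) :
    (_root_.ModSite.extZeroAdj O U).counit.app X ≫ (p U O).app X = 0 := by
  haveI := additive_extZero U O
  apply ((_root_.ModSite.extZeroAdj O U).homEquiv _ _).injective
  rw [Adjunction.homEquiv_unit, Functor.map_comp, Adjunction.right_triangle_components_assoc,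
    restr_map_p, Adjunction.homAddEquiv_zero]

/-- `O_Z ⊗ X` is `X/X_U`, naturally. -/
noncomputable def qtIsoQuotOn : Qt U O ≅ _root_.ModSite.quotOn O U :=
  NatIso.ofComponents
    (fun X =>
      { hom := descP U O ((_root_.ModSite.quotOnπ O U).app X) (restr_map_quotOnπ U O X)
        inv := cokernel.desc _ ((p U O).app X) (counit_comp_p U O X)
        hom_inv_id := by
          refine (cancel_epi ((p U O).app X)).1 ?_
          refine ((Category.assoc _ _ _).symm.trans (congrArg (· ≫ _) (p_descP U O _ _))).trans ?_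
          exact (cokernel.π_desc _ _ _).trans (Category.comp_id _).symm
        inv_hom_id := by
          refine coequalizer.hom_ext ?_
          refine ((Category.assoc _ _ _).symm.trans (congrArg (· ≫ _) (cokernel.π_desc _ _ _))).trans ?_
          exact (p_descP U O _ _).trans (Category.comp_id _).symm })
    (fun {X Y} f => by
      have hX := p_descP U O ((_root_.ModSite.quotOnπ O U).app X) (restr_map_quotOnπ U O X)
      have hY := p_descP U O ((_root_.ModSite.quotOnπ O U).app Y) (restr_map_quotOnπ U O Y)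
      refine (cancel_epi ((p U O).app X)).1 ?_
      refine ((Category.assoc _ _ _).symm.trans (congrArg (· ≫ _) ((p U O).naturality f).symm)).trans ?_
      refine (Category.assoc _ _ _).trans ((congrArg (f ≫ ·) hY).trans ?_)
      refine Eq.trans ?_ (Category.assoc _ _ _)
      refine Eq.trans ?_ (congrArg (· ≫ _) hX.symm)
      exact (_root_.ModSite.quotOnπ O U).naturality f)

section SectOn

variable [_root_.ModSite.HasPushOver O U]

lemma comp_unit_eq_zero_iff {X Y : _root_.ModSite.Mod O} (g : X ⟶ Y) :
    g ≫ (_root_.ModSite.restrPushOverAdj O U).unit.app Y = 0 ↔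
      (_root_.ModSite.restr O U).map g = 0 := by
  let adj := _root_.ModSite.restrPushOverAdj O U
  have e : g ≫ adj.unit.app Y = adj.homEquiv _ _ ((_root_.ModSite.restr O U).map g) := by
    rw [Adjunction.homEquiv_unit]
    exact adj.unit.naturality g
  rw [e]
  constructor
  · intro h
    exact (adj.homEquiv _ _).injective (h.trans (adj.homAddEquiv_zero _ _).symm)
  · intro h
    rw [h]
    exact adj.homAddEquiv_zero _ _

/-- `O_Z ⊗ -` is left adjoint to `Γ_Z`. -/
noncomputable def adjQ : Qt U O ⊣ _root_.ModSite.sectOn O U :=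
  Adjunction.mkOfHomEquiv
    { homEquiv := fun X Y =>
        { toFun := fun h => kernel.lift _ ((p U O).app X ≫ h) ((comp_unit_eq_zero_iff U O _).2 (by
            rw [Functor.map_comp, restr_map_p, zero_comp]))
          invFun := fun k => descP U O (k ≫ (_root_.ModSite.sectOnι O U).app Y)
            ((comp_unit_eq_zero_iff U O _).1
              (by rw [Category.assoc]; erw [kernel.condition]; exact comp_zero))
          left_inv := fun h => by
            rw [← cancel_epi ((p U O).app X), p_descP]
            exact kernel.lift_ι _ _ _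
          right_inv := fun k => by
            apply equalizer.hom_ext
            erw [kernel.lift_ι]
            exact p_descP U O _ _ }
      homEquiv_naturality_left_symm := fun {X' X Y} f k => by
        rw [← cancel_epi ((p U O).app X'), ← (p U O).naturality_assoc]
        dsimp only [Equiv.coe_fn_symm_mk]
        simp only [p_descP, Category.assoc, Functor.id_map]
      homEquiv_naturality_right := fun {X Y Y'} h g => by
        apply equalizer.hom_ext
        refine (kernel.lift_ι _ _ _).trans ?_
        refine Eq.trans ?_ (Category.assoc _ _ _).symm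
        refine Eq.trans ?_ (congrArg (_ ≫ ·) (kernel.lift_ι _ _ _)).symm
        refine Eq.trans ?_ (Category.assoc _ _ _)
        refine Eq.trans ?_ (congrArg (· ≫ g) (kernel.lift_ι _ _ _)).symm
        exact (Category.assoc _ _ _).symm }

end SectOn

/-- The presheaf quotient computing `O_Z`. -/
noncomputable def QP : PM.{u, u, u} O := cokernel (aug O (V J U))

lemma flat_QP (W : Cᵒᵖ) : Module.Flat (O.obj.obj W) ((QP U O).obj W) := by
  let ev := PresheafOfModules.evaluation.{u} (O.obj ⋙ forget₂ CommRingCat.{u} RingCat.{u}) W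
  haveI : PreservesColimit (parallelPair (aug O (V J U)) 0) ev := inferInstance
  let e : (QP U O).obj W ≅ cokernel ((aug O (V J U)).app W) := PreservesCokernel.iso ev _
  refine @Module.Flat.of_linearEquiv _ _ _ _ _ _ _ _ ?_ e.toLinearEquiv
  by_cases h : Nonempty ((V J U).obj W)
  · haveI : Epi ((aug O (V J U)).app W) :=
      (ModuleCat.epi_iff_surjective _).2 (bijective_aug_app O _ W h.some).2
    haveI : Subsingleton (cokernel ((aug O (V J U)).app W) : ModuleCat _) :=
      ModuleCat.subsingleton_of_isZero (isZero_cokernel_of_epi _)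
    exact inferInstance
  · have h0 : (aug O (V J U)).app W = 0 := ModuleCat.free_hom_ext fun s => (h ⟨s⟩).elim
    have e' := cokernelIsoOfEq h0 ≪≫ cokernelZeroIsoTarget
    exact @Module.Flat.of_linearEquiv _ _ _ _ _ _ _ _
      (inferInstanceAs (Module.Flat (O.obj.obj W) (O.obj.obj W))) e'.toLinearEquiv

theorem isFlat_Q : _root_.ModSite.IsFlat (Q U O) := by
  haveI := isIso_counit.{u, u, u} O
  haveI : PreservesColimit (parallelPair (aug O (V J U)) 0) (L.{u, u, u} O) := inferInstance
  haveI := additive_L O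
  let e : (L.{u, u, u} O).obj (QP U O) ≅ Q U O :=
    PreservesCokernel.iso (L.{u, u, u} O) _ ≪≫ (cokernelCompIsIso _ _).symm ≪≫
      cokernelIsoOfEq (ε_eq O (V J U)).symm
  exact ModTensor.Flat.isFlat_of_iso O e (Basic.isFlat_L (flat_QP U O))

instance preservesMono_Qt : (Qt U O).PreservesMonomorphisms := by
  haveI := (isFlat_Q U O).1
  haveI : PreservesFiniteLimits (Qt U O) :=
    preservesFiniteLimits_of_natIso (ModTensor.ModSite.flipObjIso (Q U O))
  exact preservesMonomorphisms_of_preservesLimitsOfShape _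

theorem injective_sectOn [_root_.ModSite.HasPushOver O U] (I : _root_.ModSite.Mod O) [Injective I] :
    Injective ((_root_.ModSite.sectOn O U).obj I) :=
  (adjQ U O).map_injective I inferInstance

theorem mono_aP (X : _root_.ModSite.Mod O) : Mono ((aP O (V J U)).app X) := by
  haveI : PreservesFiniteLimits (L.{u, u, u} O) :=
    inferInstanceAs (PreservesFiniteLimits (PresheafOfModules.sheafification.{u} (𝟙 (rs.{u, u, u} O).obj)))
  haveI : Mono (augT O (V J U) X) := by
    rw [PresheafOfModules.mono_iff_surjective]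
    intro W
    rw [injective_iff_map_eq_zero]
    by_cases h : Nonempty ((V J U).obj W)
    · haveI : IsIso ((aug O (V J U)).app W) :=
        (ConcreteCategory.isIso_iff_bijective _).2 (bijective_aug_app O _ W h.some)
      haveI : IsIso ((augT O (V J U) X).app W) :=
        IsIso.comp_isIso' (f := (aug O (V J U) ▷ (G.{u, u, u} O).obj X).app W)
          (h := (λ_ ((G.{u, u, u} O).obj X)).hom.app W)
          (inferInstanceAs (IsIso ((aug O (V J U)).app W ▷ ((G.{u, u, u} O).obj X).obj W)))
          (inferInstanceAs (IsIso ((PresheafOfModules.evaluation _ W).map (λ_ _).hom)))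
      intro a ha
      exact (ConcreteCategory.bijective_of_isIso ((augT O (V J U) X).app W)).1
        (ha.trans (map_zero _).symm)
    · intro a ha'
      clear ha'
      haveI : Subsingleton (((Basic.freePre O).obj (V J U)).obj W) :=
        ⟨fun a b => Finsupp.ext fun t => (h ⟨t⟩).elim⟩
      induction a using TensorProduct.induction_on with
      | zero => rfl
      | tmul z x =>
        rw [Subsingleton.elim z 0]
        exact TensorProduct.zero_tmul _ x
      | add a b ha hb =>
        exact (congrArg₂ (· + ·) ha hb).trans (add_zero _)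
  haveI := isIso_counit.{u, u, u} O
  haveI := isIso_map_whiskerRight ((adj.{u, u, u} O).unit.app ((Basic.freePre O).obj (V J U)))
    ((G.{u, u, u} O).obj X)
  have e := sheafify_whisker_comp_aP O (V J U) X
  rw [Adjunction.homEquiv_counit] at e
  rw [(IsIso.eq_inv_comp _).2 e]
  haveI := (L.{u, u, u} O).map_mono (augT O (V J U) X)
  haveI := NatIso.isIso_app_of_isIso (adj.{u, u, u} O).counit X
  exact mono_comp' (@IsIso.mono_of_iso _ _ _ _ _ (@IsIso.inv_isIso _ _ _ _ _ ‹_›)) (mono_comp' inferInstance inferInstance)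

end Groth.Agent.Lib.ModSS29.OpenFree
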