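import Groth.Agent.Lib.Modules.DerivedComm
import Groth.Agent.Lib.SpecSeq.HomExtNat

/-!
# Natural isomorphisms for derived functors composed with exact functors
-/

set_option linter.style.haveILetI false

universe v₁ v₂ v₃ u₁ u₂ u₃

open CategoryTheory Limits

namespace Groth.Agent.Lib.ModSS29.DerivedNat

open Groth.Agent.Lib.Modules.DerivedComm

variable {A : Type u₁} [Category.{v₁} A] [Abelian A] [HasInjectiveResolutions A]
  {B : Type u₂} [Category.{v₂} B] [Abelian B] {B' : Type u₃} [Category.{v₃} B'] [Abelian B']

/-- Postcomposition with an exact functor commutes with right derived functors. -/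
noncomputable def postIso (F : A ⥤ B) [F.Additive] (E : B ⥤ B') [E.Additive]
    [E.PreservesHomology] (q : ℕ) : (F ⋙ E).rightDerived q ≅ F.rightDerived q ⋙ E :=
  NatIso.ofComponents
    (fun X => (injectiveResolution X).isoRightDerivedObj (F ⋙ E) q ≪≫
      (((F.mapHomologicalComplex _).obj (injectiveResolution X).cocomplex).sc q).mapHomologyIso E ≪≫
      E.mapIso ((injectiveResolution X).isoRightDerivedObj F q).symm)
    (fun {X Y} f => by
      have comm := InjectiveResolution.desc_commutes_zero f (injectiveResolution Y)
        (injectiveResolution X)
      let φ := InjectiveResolution.desc f (injectiveResolution Y) (injectiveResolution X)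
      have h₁ := InjectiveResolution.isoRightDerivedObj_hom_naturality f (injectiveResolution X)
        (injectiveResolution Y) φ comm (F ⋙ E) q
      have h₂ := InjectiveResolution.isoRightDerivedObj_inv_naturality f (injectiveResolution X)
        (injectiveResolution Y) φ comm F q
      have h₃ := ShortComplex.mapHomologyIso_hom_naturality
        ((HomologicalComplex.shortComplexFunctor _ _ q).map ((F.mapHomologicalComplex _).map φ)) E
      simp only [Iso.trans_hom, Functor.mapIso_hom, Iso.symm_hom, Functor.comp_map]
      rw [reassoc_of% h₁, Category.assoc, Category.assoc, ← E.map_comp]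
      refine congrArg (_ ≫ ·) ?_
      refine Eq.trans ?_ (congrArg (_ ≫ ·) ((congrArg E.map h₂).trans (E.map_comp _ _))).symm
      refine (Category.assoc _ _ _).symm.trans (Eq.trans ?_ (Category.assoc _ _ _))
      exact congrArg (· ≫ E.map _) h₃)

/-- Precomposition with an exact functor preserving injectives commutes with right derived functors. -/
noncomputable def preIso {A' : Type u₃} [Category.{v₃} A'] [Abelian A'] [HasInjectiveResolutions A']
    (E : A ⥤ A') [E.Additive] [E.PreservesInjectiveObjects] [E.PreservesHomology] (F : A' ⥤ B)
    [F.Additive] (q : ℕ) : (E ⋙ F).rightDerived q ≅ E ⋙ F.rightDerived q :=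
  NatIso.ofComponents
    (fun X => (injectiveResolution X).isoRightDerivedObj (E ⋙ F) q ≪≫
      ((mapInjectiveResolution E (injectiveResolution X)).isoRightDerivedObj F q).symm)
    (fun {X Y} f => by
      have comm := InjectiveResolution.desc_commutes_zero f (injectiveResolution Y)
        (injectiveResolution X)
      let φ := InjectiveResolution.desc f (injectiveResolution Y) (injectiveResolution X)
      have h₁ := InjectiveResolution.isoRightDerivedObj_hom_naturality f (injectiveResolution X)
        (injectiveResolution Y) φ comm (E ⋙ F) q
      have h₂ := InjectiveResolution.isoRightDerivedObj_inv_naturality (E.map f)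
        (mapInjectiveResolution E (injectiveResolution X))
        (mapInjectiveResolution E (injectiveResolution Y)) ((E.mapHomologicalComplex _).map φ) (by
          have e : ∀ Z : A, (mapInjectiveResolution E (injectiveResolution Z)).ι.f 0 =
              ((HomologicalComplex.singleMapHomologicalComplex E (ComplexShape.up ℕ) 0).inv.app Z).f 0 ≫
                E.map ((injectiveResolution Z).ι.f 0) := fun _ => rfl
          have n : ((CochainComplex.single₀ A').map (E.map f)).f 0 = E.map f :=
            CochainComplex.single₀_map_f_zero (E.map f)
          have h := congrArg (fun t => HomologicalComplex.Hom.f t 0)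
            ((HomologicalComplex.singleMapHomologicalComplex E (ComplexShape.up ℕ) 0).inv.naturality f)
          rw [e, e]
          refine ((Category.assoc _ _ _).trans (congrArg (_ ≫ ·)
            ((E.map_comp _ _).symm.trans ((congrArg E.map comm).trans (E.map_comp _ _))))).trans ?_
          simp
          exact congrArg (E.map f ≫ ·) (Category.id_comp _).symm) F q
      simp only [Iso.trans_hom, Iso.symm_hom, Functor.comp_map]
      rw [reassoc_of% h₁, Category.assoc]
      exact congrArg (_ ≫ ·) h₂.symm)

end Groth.Agent.Lib.ModSS29.DerivedNat
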