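import Groth.Prelude.Def_ModSite2
import Groth.Agent.Lib.Modules.DualAdj
import Groth.Agent.Lib.Modules.ProjFormula
import Groth.Agent.Lib.Modules.ClosedUnit
import Groth.Agent.Lib.Cyc.Dev.Scheme
import Groth.Agent.Lib.ModTensor.ModSite
import Groth.Agent.Lib.DerivedOX.PullTensor
import Groth.Agent.Lib.ModSS29.SS
import Groth.Agent.Lib.ModSS29.DerivedNat

/-!
# Change of rings along a closed immersion: the functor `ℋom(ι_*E, -)` seen on the subscheme
-/

set_option autoImplicit false
set_option linter.style.haveILetI false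

universe u

open CategoryTheory CategoryTheory.Limits AlgebraicGeometry

namespace Groth.Agent.Lib.ModSS29.ChangeRings

open Groth.Agent.Lib
open Groth.Agent.Lib.Modules Groth.Agent.Lib.Modules.TensorSec
open Groth.Agent.Lib.Modules.DualAdj (tensorL)
open Groth.Agent.Lib.TensorMod.Dual (rs rf)

variable {X P : Scheme.{u}} (ι : X ⟶ P) [IsClosedImmersion ι] (E : X.Modules)

local notation "push" => Scheme.Modules.pushforward ι
local notation "pull" => Scheme.Modules.pullback ι
local notation "adj₀" => Scheme.Modules.pullbackPushforwardAdjunction ι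

/-- The direct image along a closed immersion is fully faithful. -/
noncomputable def fullyFaithfulPush : (push).FullyFaithful :=
  haveI : IsIso (adj₀).counit :=
    haveI := fun N => Cyc.Dev.SchemeCase.isIso_counit ι N
    NatIso.isIso_of_isIso_app _
  (adj₀).fullyFaithfulROfIsIsoCounit

theorem preservesHomology_push : (push).PreservesHomology := by
  haveI := PushClosed.Basic.pushforward_preservesColimits ι
  haveI : PreservesColimitsOfSize.{0, 0} (push) := preservesColimitsOfSize_shrink.{0, u, 0, u} _
  haveI : PreservesFiniteColimits (push) := PreservesColimitsOfSize.preservesFiniteColimits _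
  haveI : (push).IsRightAdjoint := (adj₀).isRightAdjoint
  haveI : PreservesFiniteLimits (push) :=
    haveI : PreservesLimitsOfSize.{0, 0} (push) := inferInstance
    PreservesLimitsOfSize.preservesFiniteLimits _
  infer_instance

/-- Sections of `ι_*E ⊗ Y` are killed by the ideal of `X`. -/
theorem smul_eq_zero (Y : P.Modules) (U : P.affineOpens) (a : Γ(P, U.1)) (ha : a ∈ ι.ker.ideal U)
    (s : Γ(CohB1.tensorMod ((push).obj E) Y, U.1)) : a • s = 0 := by
  have h0 : ι.app U.1 a = 0 := by
    rwa [Scheme.Hom.ker_apply, RingHom.mem_ker] at ha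
  suffices h : ∀ (V : P.Opens) (hV : V ≤ U.1) (u : Γ(CohB1.tensorMod ((push).obj E) Y, V)),
      rf hV a • u = 0 by
    have := h U.1 le_rfl s
    rwa [TensorMod.Dual.rf_self] at this
  intro V hV u
  refine TensorSec.induction_on (U := U.1) (P := fun V hV u => rf hV a • u = 0) ?_ ?_ ?_ ?_ V hV u
  · intro V hV w hw
    refine section_ext _ _ _ fun x hx => ?_
    obtain ⟨W, hW, hxW, e⟩ := hw x hx
    refine ⟨W, hW, hxW, ?_⟩
    rw [TensorMod.Dual.rs_smul, TensorMod.Dual.rf_rf, rs_zero]
    exact e
  · intro V hV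
    exact smul_zero _
  · intro V hV p q hp hq
    rw [smul_add, hp, hq, add_zero]
  · intro V hV m n
    rw [← tens_smul_left]
    have hm : rf hV a • m = 0 := by
      change (ι.app V (rf hV a)) • (show Γ(E, ι ⁻¹ᵁ V) from m) = 0
      rw [ProjFormula.app_rf, h0]
      refine (congrArg (fun t => t • (show Γ(E, ι ⁻¹ᵁ V) from m)) ?_).trans
        (zero_smul Γ(X, ι ⁻¹ᵁ V) _)
      exact map_zero _
    rw [hm, tens_zero_left]

theorem isIso_unit_tensor (Y : P.Modules) :
    IsIso ((adj₀).unit.app (CohB1.tensorMod ((push).obj E) Y)) :=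
  Modules.ClosedUnit.isIso_unit ι _ (smul_eq_zero ι E Y)

/-- The unit on `ι_*E ⊗ Y`, naturally in `Y`. -/
noncomputable def unitTensorIso :
    tensorL ((push).obj E) ≅ (tensorL ((push).obj E) ⋙ pull) ⋙ push :=
  haveI : ∀ Y, IsIso ((Functor.whiskerLeft (tensorL ((push).obj E)) (adj₀).unit).app Y) :=
    isIso_unit_tensor ι E
  haveI := NatIso.isIso_of_isIso_app (Functor.whiskerLeft (tensorL ((push).obj E)) (adj₀).unit)
  asIso (Functor.whiskerLeft (tensorL ((push).obj E)) (adj₀).unit)

/-- The inverse image of `A ⊗ Y`, naturally in `Y`. -/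
noncomputable def pullTensorNat (A : P.Modules) :
    tensorL A ⋙ pull ≅ pull ⋙ tensorL ((pull).obj A) :=
  (NatIso.ofComponents (fun Y => (DerivedOX.PullTensor.pullComparison ι).iso A Y)
    (fun b => (DerivedOX.PullTensor.pullComparison ι).natural₂ A b) :
      pull ⋙ tensorL ((pull).obj A) ≅ tensorL A ⋙ pull).symm

/-- The projection formula along a closed immersion: `ι_*E ⊗ Y ≅ ι_*(E ⊗ ι^*Y)`. -/
noncomputable def projClosed : tensorL ((push).obj E) ≅ pull ⋙ tensorL E ⋙ push :=
  unitTensorIso ι E ≪≫ Functor.isoWhiskerRight (pullTensorNat ι ((push).obj E)) push ≪≫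
    Functor.isoWhiskerRight (Functor.isoWhiskerLeft pull
      ((TensorMod.Basic.tensorFunctor X).mapIso
        (@asIso _ _ _ _ _ (Cyc.Dev.SchemeCase.isIso_counit ι E)))) push

variable {E}

/-- `E ⊗ -` followed by the direct image. -/
noncomputable abbrev psi (E : X.Modules) : X.Modules ⥤ P.Modules := tensorL E ⋙ push

theorem psi_isLeftAdjoint : (psi ι E).IsLeftAdjoint := by
  haveI : (tensorL E).IsLeftAdjoint :=
    @ModTensor.Adjoint.isLeftAdjoint_of_preservesColimits _ _ _ X.sheaf X.Modules _
      ((ModSite.tensorBi X.sheaf).obj E) (ModTensor.ModSite.preservesColimits_obj E)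
  haveI := PushClosed.Basic.pushforward_isLeftAdjoint ι
  infer_instance

variable (E)

/-- The right adjoint `G ↦ ℋom(ι_*E, G)`, as a module on `X`. -/
noncomputable def phi : P.Modules ⥤ X.Modules :=
  haveI := psi_isLeftAdjoint ι (E := E)
  (psi ι E).rightAdjoint

/-- The adjunction. -/
noncomputable def phiAdj : psi ι E ⊣ phi ι E :=
  haveI := psi_isLeftAdjoint ι (E := E)
  Adjunction.ofIsLeftAdjoint _

instance additive_phi : (phi ι E).Additive :=
  haveI := preservesHomology_push ι
  haveI : (push).Additive := inferInstance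
  (phiAdj ι E).right_adjoint_additive

variable {E}

theorem preservesMono_psi (hE : FlatMod.IsFinLocFree E) : (psi ι E).PreservesMonomorphisms := by
  haveI := Modules.DualAdj.tensorL_preservesMono (Modules.DualBasis.hasDBases_of_isFinLocFree hE)
  haveI : (push).IsRightAdjoint := (adj₀).isRightAdjoint
  haveI : (push).PreservesMonomorphisms := inferInstance
  exact ⟨fun f _ => inferInstanceAs (Mono ((push).map ((tensorL E).map f)))⟩

theorem preservesInjective_phi (hE : FlatMod.IsFinLocFree E) :
    (phi ι E).PreservesInjectiveObjects := by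
  haveI := preservesMono_psi ι hE
  exact Functor.preservesInjectiveObjects_of_adjunction_of_preservesMonomorphisms (phiAdj ι E)

variable (E)

/-- `ι_*` of the right adjoint is the internal hom out of `ι_*E`. -/
noncomputable def phiPushIso [ModSite.HasSheafHom (O := P.sheaf) ((push).obj E)] :
    phi ι E ⋙ push ≅ ModSite.sheafHom (O := P.sheaf) ((push).obj E) :=
  SS.radjIso ((adj₀).comp (phiAdj ι E)) (ModSite.sheafHomAdj (O := P.sheaf) ((push).obj E))
    ((projClosed ι E).symm ≪≫ (ModTensor.ModSite.flipObjIso (O := P.sheaf) ((push).obj E)).symm)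

/-- The modules `M q` of the change of rings spectral sequence. -/
theorem nonempty_rightDerived_phi [ModSite.HasSheafHom (O := P.sheaf) ((push).obj E)]
    [HasInjectiveResolutions (ModSite.Mod P.sheaf)] (G : P.Modules) (q : ℕ) (M : X.Modules)
    (hM : Nonempty ((push).obj M ≅ (ModSite.extSh (O := P.sheaf) ((push).obj E) q).obj G)) :
    Nonempty (((phi ι E).rightDerived q).obj G ≅ M) := by
  haveI := preservesHomology_push ι
  haveI h1 : (phi ι E ⋙ push).Additive := inferInstance
  haveI h2 := ModSite.sheafHom_additive (O := P.sheaf) ((push).obj E)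
  exact ⟨(fullyFaithfulPush ι).preimageIso (((DerivedNat.postIso (phi ι E) push q).app G).symm ≪≫
    @SpecSeq.Composite.rightDerivedCongr P.Modules _ _ P.Modules _ _ _ (phi ι E ⋙ push)
      (ModSite.sheafHom (O := P.sheaf) ((push).obj E)) h1 h2 (phiPushIso ι E) q G ≪≫ hM.some.symm)⟩

/-- `ι_*ℋom(F, ℋom(ι_*E, -)) ≅ ℋom(ι_*(E ⊗ F), -)`. -/
noncomputable def phiHomPushIso (F : X.Modules)
    [ModSite.HasSheafHom (O := X.sheaf) F]
    [ModSite.HasSheafHom (O := P.sheaf) ((push).obj (CohB1.tensorMod E F))] :
    phi ι E ⋙ ModSite.sheafHom (O := X.sheaf) F ⋙ push ≅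
      ModSite.sheafHom (O := P.sheaf) ((push).obj (CohB1.tensorMod E F)) :=
  (Functor.associator _ _ _).symm ≪≫
    SS.radjIso ((adj₀).comp ((ModSite.sheafHomAdj (O := X.sheaf) F).comp (phiAdj ι E)))
      (ModSite.sheafHomAdj (O := P.sheaf) ((push).obj (CohB1.tensorMod E F)))
      (Functor.isoWhiskerLeft pull
          ((Functor.associator _ _ _).symm ≪≫
            Functor.isoWhiskerRight
              (Functor.isoWhiskerLeft _ (ModTensor.ModSite.flipObjIso (O := X.sheaf) E).symm ≪≫
                ModTensor.ModSite.flipCompIso (O := X.sheaf) F E ≪≫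
                (ModSite.tensorBi X.sheaf).flip.mapIso
                  (ModTensor.ModSite.commIso (O := X.sheaf) F E) ≪≫
                ModTensor.ModSite.flipObjIso (O := X.sheaf) _) push) ≪≫
        (projClosed ι (CohB1.tensorMod E F)).symm ≪≫
        (ModTensor.ModSite.flipObjIso (O := P.sheaf) _).symm)

end Groth.Agent.Lib.ModSS29.ChangeRings
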