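import Groth.Agent.Lib.DeltaF.Universal
import Groth.Agent.Lib.RDer.Connecting
import Groth.Prelude.Def_RDerDelta
import Mathlib.CategoryTheory.Abelian.RightDerived

/-!
# Right derived functors of a composite with an exact functor sending injectives to acyclics
-/

universe v u v' u' v'' u''

open CategoryTheory Limits

namespace Groth.Agent.Lib.ModSS29.DeltaPre

variable {A : Type u} [Category.{v} A] [Abelian A] {A' : Type u'} [Category.{v'} A'] [Abelian A']
  {B : Type u''} [Category.{v''} B] [Abelian B]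

/-- A delta functor precomposed with an exact functor. -/
def precomp (T : _root_.DeltaF.CohDeltaFunctor A' B ℕ) (E : A ⥤ A') [E.Additive]
    [PreservesFiniteLimits E] [PreservesFiniteColimits E] : _root_.DeltaF.CohDeltaFunctor A B ℕ where
  F n := E ⋙ T.F n
  additive _ := inferInstance
  δ S hS := T.δ (S.map E) (hS.map_of_exact E)
  δ_natural hS hS' φ := T.δ_natural (hS.map_of_exact E) (hS'.map_of_exact E) (E.mapShortComplex.map φ)
  exact₂ S hS n := T.exact₂ (S.map E) (hS.map_of_exact E) n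
  comp_δ S hS := T.comp_δ (S.map E) (hS.map_of_exact E)
  exact₃ S hS := T.exact₃ (S.map E) (hS.map_of_exact E)
  δ_comp S hS := T.δ_comp (S.map E) (hS.map_of_exact E)
  exact₁ S hS := T.exact₁ (S.map E) (hS.map_of_exact E)

/-- Effaceable delta functors agreeing in degree zero agree. -/
theorem nonempty_iso (T T' : _root_.DeltaF.CohDeltaFunctor A B ℕ) (hT : T.IsEffaceable)
    (hT' : T'.IsEffaceable) (e : T.F 0 ≅ T'.F 0) (n : ℕ) : Nonempty (T.F n ≅ T'.F n) := by
  obtain ⟨a, ha, -⟩ := DeltaF.Universal.isUniversal_of_isEffaceable hT T' e.hom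
  obtain ⟨b, hb, -⟩ := DeltaF.Universal.isUniversal_of_isEffaceable hT' T e.inv
  have h₁ : a ≫ b = 𝟙 T := (DeltaF.Universal.isUniversal_of_isEffaceable hT T (𝟙 _)).unique
    (by rw [_root_.DeltaF.CohDeltaFunctor.comp_app, ha, hb, e.hom_inv_id]) (by simp)
  have h₂ : b ≫ a = 𝟙 T' := (DeltaF.Universal.isUniversal_of_isEffaceable hT' T' (𝟙 _)).unique
    (by rw [_root_.DeltaF.CohDeltaFunctor.comp_app, hb, ha, e.inv_hom_id]) (by simp)
  exact ⟨⟨a.app n, b.app n,
    by rw [← _root_.DeltaF.CohDeltaFunctor.comp_app, h₁, _root_.DeltaF.CohDeltaFunctor.id_app],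
    by rw [← _root_.DeltaF.CohDeltaFunctor.comp_app, h₂, _root_.DeltaF.CohDeltaFunctor.id_app]⟩⟩

/-- `Rⁿ(E ⋙ F) ≅ E ⋙ RⁿF` for `E` exact sending injectives to `F`-acyclic objects. -/
theorem nonempty_rightDerived_preIso [EnoughInjectives A] [EnoughInjectives A']
    (E : A ⥤ A') [E.Additive] [PreservesFiniteLimits E] [PreservesFiniteColimits E]
    (F : A' ⥤ B) [F.Additive] [PreservesFiniteLimits F]
    (h : ∀ (I : A) [Injective I] (n : ℕ), IsZero ((F.rightDerived (n + 1)).obj (E.obj I))) (n : ℕ) :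
    Nonempty ((E ⋙ F).rightDerived n ≅ E ⋙ F.rightDerived n) := by
  obtain ⟨Δ⟩ := RDer.Connecting.nonempty_derivedLES (E ⋙ F)
  obtain ⟨Δ'⟩ := RDer.Connecting.nonempty_derivedLES F
  haveI := comp_preservesFiniteLimits E F
  refine nonempty_iso Δ.toCohDeltaFunctor (precomp Δ'.toCohDeltaFunctor E) ?_ ?_
    ((E ⋙ F).rightDerivedZeroIsoSelf ≪≫ Functor.isoWhiskerLeft E F.rightDerivedZeroIsoSelf.symm) n
  · exact DeltaF.Universal.isEffaceable_iff.2 fun n I hI =>
      haveI := hI
      (E ⋙ F).isZero_rightDerived_obj_injective_succ n I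
  · exact DeltaF.Universal.isEffaceable_iff.2 fun n I hI =>
      haveI := hI
      h I n

end Groth.Agent.Lib.ModSS29.DeltaPre
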