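import Groth.Agent.Lib.ModSS29.SS

/-!
# Indexing helpers and comparison of the source objects
-/

set_option linter.style.haveILetI false

universe u

open CategoryTheory Limits Opposite

namespace Groth.Agent.Lib.ModSS29.Rows

open OpenFree

lemma iso_ite {P : Prop} [Decidable P] {X Y Z : AddCommGrpCat.{u}} (h : P) (e : Nonempty (X ≅ Y)) :
    Nonempty (X ≅ if P then Y else Z) := by
  rw [if_pos h]; exact e

lemma isZero_ite {P : Prop} [Decidable P] {Y : AddCommGrpCat.{u}} (h : ¬P) :
    IsZero (if P then Y else AddCommGrpCat.of PUnit.{u + 1}) := by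
  rw [if_neg h]; exact AddCommGrpCat.isZero_of_subsingleton _

variable {C : Type u} [SmallCategory C] {J : GrothendieckTopology C} {O : Sheaf J CommRingCat.{u}}

/-- `O ⊗ X ≅ X`. -/
noncomputable def flipUnit (X : _root_.ModSite.Mod O) :
    ((_root_.ModSite.tensorBi O).flip.obj X).obj (_root_.ModSite.unit O) ≅ X :=
  (unitIso O).app X

/-- `O_Z ⊗ X ≅ X/X_U`. -/
noncomputable def flipQ (U : C) (X : _root_.ModSite.Mod O) :
    ((_root_.ModSite.tensorBi O).flip.obj X).obj (Q U O) ≅ (_root_.ModSite.quotOn O U).obj X :=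
  (qtIsoQuotOn U O).app X

end Groth.Agent.Lib.ModSS29.Rows

namespace Groth.Agent.Lib.ModSS29.Rows

open scoped ZeroObject

lemma isZero_ite0 {P : Prop} [Decidable P] {Y : AddCommGrpCat.{u}} (h : ¬P) :
    IsZero (if P then Y else 0) := by
  rw [if_neg h]; exact isZero_zero _

end Groth.Agent.Lib.ModSS29.Rows
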