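import Groth.Agent.Lib.ModSS29.SS
import Groth.Agent.Lib.ModSS29.DerivedNat

/-!
# Ext groups and exact adjunctions
-/

set_option linter.style.haveILetI false

universe w w' v u₁ u₂

open CategoryTheory Limits Abelian

namespace Groth.Agent.Lib.ModSS29.ExtAdj

open Groth.Agent.Lib.SpecSeq Groth.Agent.Lib.SpecSeq.HomExt

variable {A : Type u₁} [Category.{v} A] [Abelian A] {B : Type u₂} [Category.{v} B] [Abelian B]

/-- Ext groups do not depend on the universe. -/
noncomputable def chgAddEquiv [HasExt.{w} A] [HasExt.{w'} A] (X Y : A) (n : ℕ) :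
    Ext.{w} X Y n ≃+ Ext.{w'} X Y n :=
  AddEquiv.mk' Ext.chgUniv.{w'} fun a b => by
    letI := HasDerivedCategory.standard A
    apply Ext.homEquiv.injective
    have h₁ : ∀ e : Ext.{w} X Y n, (Ext.chgUniv.{w'} e).hom = e.hom := Ext.homEquiv_chgUniv
    change (Ext.chgUniv.{w'} (a + b)).hom = (Ext.chgUniv.{w'} a + Ext.chgUniv.{w'} b).hom
    rw [Ext.add_hom, h₁, h₁, h₁, Ext.add_hom]

/-- Ext groups along an exact right adjoint preserving injectives. -/
theorem nonempty_adjEquiv [HasExt.{v} A] [HasExt.{v} B] [HasInjectiveResolutions A]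
    [HasInjectiveResolutions B] {F : B ⥤ A} {G : A ⥤ B} (adj : F ⊣ G) [F.Additive] [G.Additive]
    [G.PreservesHomology] [G.PreservesInjectiveObjects] (P : B) (N : A) (n : ℕ) :
    Nonempty (Ext (F.obj P) N n ≃+ Ext P (G.obj N) n) :=
  ⟨((rightDerivedIso (F.obj P) N n).symm ≪≫
      Composite.rightDerivedCongr (SS.compHomIso adj P).symm n N ≪≫
      (DerivedNat.preIso G (homFunctor P) n).app N ≪≫
      rightDerivedIso P (G.obj N) n).addCommGroupIsoToAddEquiv⟩

end Groth.Agent.Lib.ModSS29.ExtAdj
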