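import Groth.Agent.Lib.ModSS29.OpenFree
import Groth.Agent.Lib.FreeMod.TotAcyclic
import Groth.Agent.Lib.SpecSeq.HomExt
import Groth.Agent.Lib.SpecSeq.Composite
import Groth.Agent.Lib.SiteCoh.FreeSheaf
import Mathlib.Algebra.Homology.DerivedCategory.Ext.ExactSequences

/-!
# Free abelian sheaves against free modules; vanishing of Ext into internal homs
-/

set_option linter.style.haveILetI false
set_option linter.unusedSectionVars false

universe u

open CategoryTheory Limits Opposite Abelian

namespace Groth.Agent.Lib.ModSS29.AbSide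

open Groth.Agent.Lib.SiteCoh.FreeRes Groth.Agent.Lib.FreeMod Groth.Agent.Lib.SpecSeq.HomExt OpenFree

variable {C : Type u} [SmallCategory C] {J : GrothendieckTopology C} (O : Sheaf J CommRingCat.{u})

/-- Maps out of a free abelian sheaf into a module. -/
noncomputable def homEquivAddAb (S : Cᵒᵖ ⥤ Type u) (M : _root_.ModSite.Mod O) :
    ((Basic.FrP O).obj S ⟶ M) ≃+ ((freeP J).obj S ⟶ _root_.ModSite.toAb M) :=
  AddEquiv.mk' (TotAcyclic.homEquivAb O S M) fun a b => by
    rw [TotAcyclic.homEquivAb_eq, TotAcyclic.homEquivAb_eq, TotAcyclic.homEquivAb_eq,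
      Functor.map_add, Preadditive.comp_add]

variable {S S' : Cᵒᵖ ⥤ Type u} (f : S ⟶ S')

/-- Maps out of a quotient of free abelian sheaves into a module. -/
noncomputable def cokerEquiv (M : _root_.ModSite.Mod O) :
    (cokernel ((Basic.FrP O).map f) ⟶ M) ≃+ (cokernel ((freeP J).map f) ⟶ _root_.ModSite.toAb M) where
  toFun z := cokernel.desc _ (homEquivAddAb O S' M (cokernel.π _ ≫ z)) (by
    refine (TotAcyclic.homEquivAb_left O f _).symm.trans ?_
    rw [← Category.assoc, cokernel.condition, zero_comp]
    exact map_zero (homEquivAddAb O S M))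
  invFun y := cokernel.desc _ ((homEquivAddAb O S' M).symm (cokernel.π _ ≫ y)) (by
    apply (homEquivAddAb O S M).injective
    rw [map_zero]
    refine (TotAcyclic.homEquivAb_left O f _).trans ?_
    refine (congrArg (_ ≫ ·) (AddEquiv.apply_symm_apply (homEquivAddAb O S' M) _)).trans ?_
    rw [← Category.assoc, cokernel.condition, zero_comp])
  left_inv z := by
    apply coequalizer.hom_ext
    simp
  right_inv y := by
    apply coequalizer.hom_ext
    simp
  map_add' a b := by
    apply coequalizer.hom_ext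
    simp [Preadditive.comp_add]

/-- `Hom(coker ℤ[f], -)` on underlying abelian sheaves is `Hom(coker O[f], -)`. -/
noncomputable def cokerNatIso :
    SheafOfModules.toSheaf (_root_.ModSite.ringSh O) ⋙ homFunctor (cokernel ((freeP J).map f)) ≅
      homFunctor (cokernel ((Basic.FrP O).map f)) :=
  NatIso.ofComponents (fun M => (cokerEquiv O f M).symm.toAddCommGrpIso) (fun {M N} g => by
    ext y
    apply (cokerEquiv O f N).injective
    refine (AddEquiv.apply_symm_apply _ _).trans ?_
    apply coequalizer.hom_ext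
    refine Eq.trans ?_ (cokernel.π_desc _ _ _).symm
    change cokernel.π _ ≫ y ≫ (SheafOfModules.toSheaf _).map g =
      TotAcyclic.homEquivAb O S' N (cokernel.π _ ≫ ((cokerEquiv O f M).symm y) ≫ g)
    rw [← Category.assoc (cokernel.π ((Basic.FrP O).map f)), TotAcyclic.homEquivAb_eq, Functor.map_comp,
      ← Category.assoc, ← Category.assoc (TotAcyclic.κ O S'), ← TotAcyclic.homEquivAb_eq]
    congr 1
    exact (congrArg (TotAcyclic.homEquivAb O S' M) (cokernel.π_desc _ _ _)).trans
      (AddEquiv.apply_symm_apply (homEquivAddAb O S' M) _) |>.symm)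

/-- `Hom(ℤ[S], -)` on underlying abelian sheaves is `Hom(O[S], -)`. -/
noncomputable def freeNatIso (S : Cᵒᵖ ⥤ Type u) :
    SheafOfModules.toSheaf (_root_.ModSite.ringSh O) ⋙ homFunctor ((freeP J).obj S) ≅
      homFunctor ((Basic.FrP O).obj S) :=
  NatIso.ofComponents (fun M => (homEquivAddAb O S M).symm.toAddCommGrpIso) (fun {M N} g => by
    ext y
    apply (homEquivAddAb O S N).injective
    refine (AddEquiv.apply_symm_apply _ _).trans ?_
    change y ≫ (SheafOfModules.toSheaf _).map g =
      TotAcyclic.homEquivAb O S N (((homEquivAddAb O S M).symm y) ≫ g)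
    rw [TotAcyclic.homEquivAb_eq, Functor.map_comp, ← Category.assoc, ← TotAcyclic.homEquivAb_eq]
    exact congrArg (· ≫ _) (AddEquiv.apply_symm_apply (homEquivAddAb O S M) y).symm)

variable (J)

/-- The constant sheaf `ℤ` is free on the final object. -/
noncomputable def zIso :
    (constantSheaf J AddCommGrpCat.{u}).obj (AddCommGrpCat.of (ULift.{u} ℤ)) ≅ (freeP J).obj (T J) :=
  (presheafToSheaf J AddCommGrpCat.{u}).mapIso
    (NatIso.ofComponents
      (fun W => ((FreeAbelianGroup.uniqueEquiv ((T J).obj W)).trans AddEquiv.ulift.symm).symm.toAddCommGrpIso)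
      (fun {W W'} g => by
        ext ⟨k⟩
        change k • FreeAbelianGroup.of (default : (T J).obj W') =
          FreeAbelianGroup.map ((T J).map g) (k • FreeAbelianGroup.of (default : (T J).obj W))
        rw [map_zsmul, FreeAbelianGroup.map_of_apply]
        exact congrArg (fun t => k • FreeAbelianGroup.of t) (Unique.default_eq _)))

variable (U : C)

lemma epi_freeP_toSheafify :
    Epi ((freeP J).map (CategoryTheory.toSheafify J (yoneda.obj U))) := by
  refine ⟨fun {A} a b h => ?_⟩
  apply ((TotAcyclic.freePAdj (J := J)).homEquiv _ A).injective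
  refine sheafify_hom_ext J _ _ ((sheafCompose J (forget AddCommGrpCat.{u})).obj A).property ?_
  rw [← Adjunction.homEquiv_naturality_left, ← Adjunction.homEquiv_naturality_left, h]

instance epi_freeP_toRange : Epi ((freeP J).map (Subfunctor.toRange (toT J U))) :=
  haveI : (freeP J).IsLeftAdjoint := (TotAcyclic.freePAdj (J := J)).isLeftAdjoint
  inferInstance

/-- `ℤ/ℤ_U` in terms of the open generated by `U`. -/
noncomputable def quotZIso :
    ToposFin.quotZ (ToposFin.eps J U) ≅ cokernel ((freeP J).map (ι J U)) :=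
  haveI := epi_freeP_toSheafify J U
  (cokernelEpiComp ((freeP J).map (CategoryTheory.toSheafify J (yoneda.obj U)))
      ((freeP J).map (terminal.from (ToposFin.eps J U)).hom)).symm ≪≫
    cokernelIsoOfEq (by
      rw [← Functor.map_comp, ← Functor.map_comp]
      exact congrArg _ ((isTerminalT J).hom_ext _ (Subfunctor.toRange (toT J U) ≫ ι J U))) ≪≫
    cokernelEpiComp ((freeP J).map (Subfunctor.toRange (toT J U))) ((freeP J).map (ι J U))

lemma free_map_injective {α β : Type u} (g : α → β) (hg : Function.Injective g) :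
    Function.Injective (FreeAbelianGroup.map g) := by
  by_cases h : Nonempty α
  · have := h
    refine Function.LeftInverse.injective (g := FreeAbelianGroup.map (Function.invFun g)) fun x => ?_
    rw [← FreeAbelianGroup.map_comp_apply, Function.invFun_comp hg, FreeAbelianGroup.map_id_apply]
  · have : IsEmpty α := not_nonempty_iff.1 h
    intro a b _
    exact Subsingleton.elim a b

instance mono_freeP_ι : Mono ((freeP J).map (ι J U)) := by
  haveI : ∀ W, Mono (((Functor.whiskeringRight Cᵒᵖ (Type u) AddCommGrpCat.{u}).obj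
      AddCommGrpCat.free.{u}).map (ι J U) |>.app W) := fun W =>
    (AddCommGrpCat.mono_iff_injective _).2 (free_map_injective _ Subtype.val_injective)
  haveI := NatTrans.mono_of_mono_app (((Functor.whiskeringRight Cᵒᵖ (Type u) AddCommGrpCat.{u}).obj
      AddCommGrpCat.free.{u}).map (ι J U))
  exact (presheafToSheaf J AddCommGrpCat.{u}).map_mono _

lemma subsingleton_ext_T {F : Sheaf J AddCommGrpCat.{u}} (hF : CohCx.IsTotallyAcyclic F) (q : ℕ) :
    Subsingleton (Ext ((freeP J).obj (T J)) F (q + 1)) :=
  hF (⊤_ (Sheaf J (Type u))) q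

lemma subsingleton_of_iso {X X' F : Sheaf J AddCommGrpCat.{u}} (e : X ≅ X') (q : ℕ)
    (h : Subsingleton (Ext X F q)) : Subsingleton (Ext X' F q) :=
  subsingleton_of_forall_eq 0 fun x => by
    have h0 : (Ext.mk₀ e.hom).comp x (zero_add q) = 0 := h.elim _ _
    have := congrArg (fun y => (Ext.mk₀ e.inv).comp y (zero_add q)) h0
    simpa using this

lemma subsingleton_ext_free {F : Sheaf J AddCommGrpCat.{u}} (hF : CohCx.IsTotallyAcyclic F)
    (S : Cᵒᵖ ⥤ Type u) (q : ℕ) : Subsingleton (Ext ((freeP J).obj S) F (q + 1)) :=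
  subsingleton_of_iso J ((presheafToSheafCompComposeAndSheafifyIso J AddCommGrpCat.free.{u}).app S)
    (q + 1) (hF ((presheafToSheaf J (Type u)).obj S) q)

/-- The short exact sequence `0 → ℤ_U → ℤ → ℤ/ℤ_U → 0`. -/
noncomputable abbrev seqZ : ShortComplex (Sheaf J AddCommGrpCat.{u}) :=
  ShortComplex.mk ((freeP J).map (ι J U)) (cokernel.π _) (cokernel.condition _)

lemma seqZ_shortExact : (seqZ J U).ShortExact where
  exact := ShortComplex.exact_of_g_is_cokernel _ (cokernelIsCokernel _)

variable {J} in
/-- Totally acyclic sheaves whose sections extend from the open have no higher cohomology with supports. -/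
lemma subsingleton_ext_coker {F : Sheaf J AddCommGrpCat.{u}} (hF : CohCx.IsTotallyAcyclic F)
    (hs : ∀ y : (freeP J).obj (V J U) ⟶ F, ∃ y', (freeP J).map (ι J U) ≫ y' = y) (p : ℕ) :
    Subsingleton (Ext (cokernel ((freeP J).map (ι J U))) F (p + 1)) := by
  refine subsingleton_of_forall_eq 0 fun x => ?_
  have hx : (Ext.mk₀ (seqZ J U).g).comp x (zero_add (p + 1)) = 0 :=
    (subsingleton_ext_T J hF p).elim _ _
  obtain ⟨y, hy⟩ := Ext.contravariant_sequence_exact₃ (seqZ_shortExact J U) F x hx (add_comm 1 p)
  rw [← hy]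
  cases p with
  | zero =>
    obtain ⟨t, rfl⟩ := (Ext.mk₀_bijective _ _).2 y
    obtain ⟨t', ht'⟩ := hs t
    rw [← ht', ← Ext.mk₀_comp_mk₀]
    exact (seqZ_shortExact J U).extClass_comp_assoc _
  | succ p =>
    have : y = 0 := (subsingleton_ext_free J hF _ p).elim _ _
    rw [this, Ext.comp_zero]

variable {J}

/-- Sections of `ℋom(X, I)` extend from the open generated by `U` when `I` is injective. -/
lemma exists_extension (X I : _root_.ModSite.Mod O) [_root_.ModSite.HasSheafHom X] [Injective I]
    (y : (freeP J).obj (V J U) ⟶ _root_.ModSite.toAb ((_root_.ModSite.sheafHom X).obj I)) :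
    ∃ y', (freeP J).map (ι J U) ≫ y' = y := by
  let adj := _root_.ModSite.sheafHomAdj X
  let T' := (_root_.ModSite.tensorBi O).flip.obj X
  haveI := mono_aP U O X
  haveI : Mono (T'.map ((Basic.FrP O).map (ι J U))) := by
    have e : T'.map ((Basic.FrP O).map (ι J U)) ≫ (aP O (T J)).app X = (aP O (V J U)).app X := by
      change ((_root_.ModSite.tensorBi O).map _).app X ≫ ((_root_.ModSite.tensorBi O).map _ ≫ _).app X = _
      rw [← NatTrans.comp_app, ← Category.assoc, ← Functor.map_comp, map_comp_ε]
      rfl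
    exact mono_of_mono_fac e
  let x := (TotAcyclic.homEquivAb O _ _).symm y
  let z := (adj.homEquiv _ I).symm x
  refine ⟨TotAcyclic.homEquivAb O _ _ (adj.homEquiv _ I
    (Injective.factorThru z (T'.map ((Basic.FrP O).map (ι J U))))), ?_⟩
  rw [← TotAcyclic.homEquivAb_left, ← Adjunction.homEquiv_naturality_left,
    Injective.comp_factorThru]
  simp [x, z]

theorem subsingleton_ext_sheafHom_Z (X I : _root_.ModSite.Mod O) [_root_.ModSite.HasSheafHom X]
    [Injective I] (p : ℕ) :
    Subsingleton (Ext ((constantSheaf J AddCommGrpCat.{u}).obj (AddCommGrpCat.of (ULift.{u} ℤ)))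
      (_root_.ModSite.toAb ((_root_.ModSite.sheafHom X).obj I)) (p + 1)) :=
  subsingleton_of_iso J (zIso J).symm _
    (subsingleton_ext_T J (TotAcyclic.isTotallyAcyclic_sheafHom O X I) p)

theorem subsingleton_ext_sheafHom_quotZ (X I : _root_.ModSite.Mod O) [_root_.ModSite.HasSheafHom X]
    [Injective I] (p : ℕ) :
    Subsingleton (Ext (ToposFin.quotZ (ToposFin.eps J U))
      (_root_.ModSite.toAb ((_root_.ModSite.sheafHom X).obj I)) (p + 1)) :=
  subsingleton_of_iso J (quotZIso J U).symm _ (subsingleton_ext_coker U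
    (TotAcyclic.isTotallyAcyclic_sheafHom O X I) (exists_extension O U X I) p)

/-- `Hom(ℤ, -)` on underlying abelian sheaves is `Hom(O, -)`. -/
noncomputable def zNatIso :
    SheafOfModules.toSheaf (_root_.ModSite.ringSh O) ⋙
        homFunctor ((constantSheaf J AddCommGrpCat.{u}).obj (AddCommGrpCat.of (ULift.{u} ℤ))) ≅
      homFunctor (_root_.ModSite.unit O) :=
  Functor.isoWhiskerLeft _ (preadditiveCoyoneda.mapIso (zIso J).symm.op) ≪≫ freeNatIso O (T J) ≪≫
    preadditiveCoyoneda.mapIso (asIso (ε O (T J))).symm.op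

/-- `Hom(ℤ/ℤ_U, -)` on underlying abelian sheaves is `Hom(O/O_U, -)`. -/
noncomputable def quotZNatIso :
    SheafOfModules.toSheaf (_root_.ModSite.ringSh O) ⋙
        homFunctor (ToposFin.quotZ (ToposFin.eps J U)) ≅
      homFunctor (Q U O) :=
  Functor.isoWhiskerLeft _ (preadditiveCoyoneda.mapIso (quotZIso J U).symm.op) ≪≫
    cokerNatIso O (ι J U) ≪≫
    preadditiveCoyoneda.mapIso (((cokernelCompIsIso ((Basic.FrP O).map (ι J U)) (ε O (T J))).symm ≪≫
      cokernelIsoOfEq (map_comp_ε O (ι J U))).symm.op)

end Groth.Agent.Lib.ModSS29.AbSide
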