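import Groth.Agent.Lib.ModSS29.Rows
import Groth.Agent.Lib.ModSS29.ExtCompare

/-!
# `Γ_Z` as an internal hom out of `O_Z`
-/

set_option linter.style.haveILetI false

universe u

open CategoryTheory Limits Opposite

namespace Groth.Agent.Lib.ModSS29.SectHom

open OpenFree Groth.Agent.Lib.SpecSeq.HomExt

variable {C : Type u} [SmallCategory C] {J : GrothendieckTopology C} (O : Sheaf J CommRingCat.{u}) (U : C)
  [_root_.ModSite.HasPushOver O U]

/-- `Γ_Z ≅ ℋom(O_Z, -)`. -/
noncomputable def sectIso [_root_.ModSite.HasSheafHom (Q U O)] :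
    _root_.ModSite.sectOn O U ≅ _root_.ModSite.sheafHom (Q U O) :=
  SS.radjIso (adjQ U O) (_root_.ModSite.sheafHomAdj (Q U O))
    (ModTensor.ModSite.flipObjIso (Q U O)).symm

/-- `Γ_Z ℋom(M, -) ≅ ℋom(O_Z ⊗ M, -)`. -/
noncomputable def homSectIso (M : _root_.ModSite.Mod O) [_root_.ModSite.HasSheafHom M]
    [_root_.ModSite.HasSheafHom ((Qt U O).obj M)] :
    _root_.ModSite.sheafHom M ⋙ _root_.ModSite.sectOn O U ≅
      _root_.ModSite.sheafHom ((Qt U O).obj M) :=
  SS.radjIso ((adjQ U O).comp (_root_.ModSite.sheafHomAdj M))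
    (_root_.ModSite.sheafHomAdj ((Qt U O).obj M))
    (Functor.isoWhiskerRight (ModTensor.ModSite.flipObjIso (Q U O)).symm _ ≪≫
      ModTensor.ModSite.flipCompIso (Q U O) M)

/-- `Hom(W, -)` applied to underlying abelian sheaves of isomorphic modules. -/
noncomputable def extSndIso (W : Sheaf J AddCommGrpCat.{u}) {X Y : _root_.ModSite.Mod O} (i : X ≅ Y)
    (p : ℕ) :
    AddCommGrpCat.of (Abelian.Ext W (_root_.ModSite.toAb X) p) ≅
      AddCommGrpCat.of (Abelian.Ext W (_root_.ModSite.toAb Y) p) :=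
  (Abelian.extFunctorObj W p).mapIso ((SheafOfModules.toSheaf _).mapIso i)

omit [_root_.ModSite.HasPushOver O U] in
/-- `Extⁿ(O_Z, M) ≅ Hⁿ_Z(M)`. -/
theorem nonempty_ext_Q_equiv [HasExt.{u} (_root_.ModSite.Mod O)] (M : _root_.ModSite.Mod O) (n : ℕ) :
    Nonempty (Abelian.Ext (Q U O) M n ≃+ _root_.ModSite.HZ U M n) := by
  refine ExtCompare.nonempty_extEquiv (SheafOfModules.toSheaf _) _ _ (AbSide.quotZNatIso O U)
    (fun I _ p => ?_) n M
  haveI := ModTensor.ModSite.hasSheafHom (_root_.ModSite.unit O)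
  let i : 𝟭 (_root_.ModSite.Mod O) ≅ _root_.ModSite.sheafHom (_root_.ModSite.unit O) :=
    SS.radjIso Adjunction.id (_root_.ModSite.sheafHomAdj _) ModTensor.ModSite.flipUnitIso.symm
  have := AbSide.subsingleton_ext_sheafHom_quotZ O U (_root_.ModSite.unit O) I p
  exact (extSndIso O _ (i.app I) (p + 1)).addCommGroupIsoToAddEquiv.toEquiv.subsingleton

end Groth.Agent.Lib.ModSS29.SectHom
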