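import Groth.Agent.Lib.ModSS29.TA
import Mathlib.Algebra.Category.ModuleCat.Sheaf.ChangeOfRings

/-!
# Sections with support and restriction of scalars
-/

set_option linter.style.haveILetI false
set_option linter.unusedSectionVars false

universe u

open CategoryTheory Limits Opposite

namespace Groth.Agent.Lib.ModSS29.SectRestrict

open Groth.Agent.Lib.FreeMod OpenFree TA

variable {C : Type u} [SmallCategory C] {J : GrothendieckTopology C}

section

variable (O : Sheaf J CommRingCat.{u}) (U : C) [_root_.ModSite.HasPushOver O U]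

/-- Sections are maps out of free modules. -/
noncomputable def secEquiv (W : C) (M : _root_.ModSite.Mod O) :
    ((Basic.FrP O).obj (yoneda.obj W) ⟶ M) ≃ ((Basic.toSets O).obj M).obj (op W) :=
  ((Basic.frAdj O).homEquiv _ _).trans yonedaEquiv

omit [_root_.ModSite.HasPushOver O U] in
lemma secEquiv_comp (W : C) {M N : _root_.ModSite.Mod O} (y : (Basic.FrP O).obj (yoneda.obj W) ⟶ M)
    (g : M ⟶ N) : secEquiv O W N (y ≫ g) = ((Basic.toSets O).map g).app (op W) (secEquiv O W M y) := by
  rw [secEquiv, Equiv.trans_apply, Adjunction.homEquiv_naturality_right]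
  exact yonedaEquiv_comp _ _

/-- A section vanishing on every object over `U` is a section with support. -/
theorem exists_sect {N : _root_.ModSite.Mod O} (W : C) (s : N.val.obj (op W))
    (hs : ∀ (W' : C) (g : W' ⟶ W), Nonempty (W' ⟶ U) → N.val.map g.op s = 0) :
    ∃ t, ((_root_.ModSite.sectOnι O U).app N).val.app (op W) t = s := by
  let k : (Basic.FrP O).obj (yoneda.obj W) ⟶ N :=
    (secEquiv O W N).symm s
  have hk : (Basic.FrP O).map (subW U W).ι ≫ k = 0 := by
    apply ((Basic.frAdj O).homEquiv _ _).injective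
    rw [Adjunction.homEquiv_naturality_left]
    simp only [k, secEquiv, Equiv.symm_trans_apply, Equiv.apply_symm_apply]
    rw [Adjunction.homEquiv_unit]
    ext W' ⟨g, hg⟩
    exact hs W'.unop g hg
  let y := kernel.lift ((_root_.ModSite.restrPushOverAdj O U).unit.app N) k
    ((comp_unit_eq_zero_iff U O _).2 (restr_comp_eq_zero O U W k hk))
  have hy : y ≫ (_root_.ModSite.sectOnι O U).app N = k := kernel.lift_ι _ _ _
  refine ⟨secEquiv O W _ y, (secEquiv_comp O W y ((_root_.ModSite.sectOnι O U).app N)).symm.trans ?_⟩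
  exact (congrArg (secEquiv O W _) hy).trans ((secEquiv O W N).apply_symm_apply s)

end

variable {O O' : Sheaf J CommRingCat.{u}} (φ : O ⟶ O') (U : C)
  [_root_.ModSite.HasPushOver O U] [_root_.ModSite.HasPushOver O' U]

/-- Restriction of scalars. -/
noncomputable abbrev R : _root_.ModSite.Mod O' ⥤ _root_.ModSite.Mod O :=
  SheafOfModules.restrictScalars ((sheafCompose J (forget₂ CommRingCat.{u} RingCat.{u})).map φ)

instance : PreservesFiniteLimits (R φ) := by
  haveI : (SheafOfModules.toSheaf.{u} (_root_.ModSite.ringSh O)).ReflectsIsomorphisms :=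
    reflectsIsomorphisms_of_reflectsMonomorphisms_of_reflectsEpimorphisms _
  haveI : ReflectsFiniteLimits (SheafOfModules.toSheaf.{u} (_root_.ModSite.ringSh O)) :=
    ⟨fun _ _ _ => reflectsLimitsOfShape_of_reflectsIsomorphisms⟩
  haveI : PreservesFiniteLimits (R φ ⋙ SheafOfModules.toSheaf (_root_.ModSite.ringSh O)) :=
    preservesFiniteLimits_of_natIso
      (NatIso.ofComponents (fun _ => Iso.refl _) : SheafOfModules.toSheaf (_root_.ModSite.ringSh O') ≅ _)
  exact preservesFiniteLimits_of_reflects_of_preserves (R φ) (SheafOfModules.toSheaf _)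

instance : PreservesFiniteColimits (R φ) := by
  haveI : (SheafOfModules.toSheaf.{u} (_root_.ModSite.ringSh O)).ReflectsIsomorphisms :=
    reflectsIsomorphisms_of_reflectsMonomorphisms_of_reflectsEpimorphisms _
  haveI : ReflectsFiniteColimits (SheafOfModules.toSheaf.{u} (_root_.ModSite.ringSh O)) :=
    { reflects := fun _ _ _ => reflectsColimitsOfShape_of_reflectsIsomorphisms }
  haveI : PreservesFiniteColimits (R φ ⋙ SheafOfModules.toSheaf (_root_.ModSite.ringSh O)) :=
    preservesFiniteColimits_of_natIso
      (NatIso.ofComponents (fun _ => Iso.refl _) : SheafOfModules.toSheaf (_root_.ModSite.ringSh O') ≅ _)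
  exact preservesFiniteColimits_of_reflects_of_preserves (R φ) (SheafOfModules.toSheaf _)

lemma restr_R_ι (N : _root_.ModSite.Mod O') :
    (_root_.ModSite.restr O U).map ((R φ).map ((_root_.ModSite.sectOnι O' U).app N)) = 0 :=
  (restr_map_eq_zero_iff U O _).2 fun W hW x =>
    (restr_map_eq_zero_iff U O' _).1 (restr_sectOnι O' U N) W hW x

/-- The comparison map. -/
noncomputable def cmpMap (N : _root_.ModSite.Mod O') :
    (R φ).obj ((_root_.ModSite.sectOn O' U).obj N) ⟶ (_root_.ModSite.sectOn O U).obj ((R φ).obj N) :=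
  kernel.lift _ ((R φ).map ((_root_.ModSite.sectOnι O' U).app N))
    ((comp_unit_eq_zero_iff U O _).2 (restr_R_ι φ U N))

lemma cmpMap_ι (N : _root_.ModSite.Mod O') :
    cmpMap φ U N ≫ (_root_.ModSite.sectOnι O U).app ((R φ).obj N) =
      (R φ).map ((_root_.ModSite.sectOnι O' U).app N) :=
  kernel.lift_ι _ _ _

instance mono_cmpMap (N : _root_.ModSite.Mod O') : Mono (cmpMap φ U N) := by
  haveI : Mono ((_root_.ModSite.sectOnι O' U).app N) := inferInstanceAs (Mono (kernel.ι _))
  exact mono_of_mono_fac (cmpMap_ι φ U N)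

instance isIso_cmpMap (N : _root_.ModSite.Mod O') : IsIso (cmpMap φ U N) := by
  have : Epi (cmpMap φ U N) := by
    apply (SheafOfModules.toSheaf _).epi_of_epi_map
    refine (Sheaf.isLocallySurjective_iff_epi' _ _).1 ?_
    refine Presheaf.isLocallySurjective_of_surjective J
      ((SheafOfModules.toSheaf _).map (cmpMap φ U N)).hom ?_
    rintro ⟨W⟩ s
    obtain ⟨t, ht⟩ := exists_sect O' U W
      (((_root_.ModSite.sectOnι O U).app ((R φ).obj N)).val.app (op W) s : N.val.obj (op W))
      (fun W' g hg => by
        refine ((PresheafOfModules.naturality_apply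
          ((_root_.ModSite.sectOnι O U).app ((R φ).obj N)).val g.op s).symm).trans ?_
        exact (restr_map_eq_zero_iff U O _).1 (restr_sectOnι O U _) (op W')
          ((nonempty_V_iff J U W').2 hg) _)
    refine ⟨t, ?_⟩
    have hinj : Function.Injective (((_root_.ModSite.sectOnι O U).app ((R φ).obj N)).val.app (op W)) := by
      haveI : Mono ((_root_.ModSite.sectOnι O U).app ((R φ).obj N)) := inferInstanceAs (Mono (kernel.ι _))
      haveI : (SheafOfModules.forget (_root_.ModSite.ringSh O)).IsRightAdjoint :=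
        (ModTensor.Monoidal.adj.{u, u, u} O).isRightAdjoint
      have h := (PresheafOfModules.mono_iff_surjective
        ((SheafOfModules.forget _).map ((_root_.ModSite.sectOnι O U).app ((R φ).obj N)))).1
          inferInstance
      exact @h (op W)
    apply hinj
    exact (congrArg (fun ψ => ψ.val.app (op W) t) (cmpMap_ι φ U N)).trans ht
  exact isIso_of_mono_of_epi _

/-- `Γ_Z` commutes with restriction of scalars. -/
noncomputable def sectRestrictIso :
    _root_.ModSite.sectOn O' U ⋙ R φ ≅ R φ ⋙ _root_.ModSite.sectOn O U :=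
  NatIso.ofComponents (fun N => asIso (cmpMap φ U N)) (fun {M N} f => by
    haveI : Mono ((_root_.ModSite.sectOnι O U).app ((R φ).obj N)) := inferInstanceAs (Mono (kernel.ι _))
    refine (cancel_mono ((_root_.ModSite.sectOnι O U).app ((R φ).obj N))).1 ?_
    dsimp only [asIso_hom, Functor.comp_map]
    rw [Category.assoc, Category.assoc]
    refine (congrArg (_ ≫ ·) (cmpMap_ι φ U N)).trans ?_
    refine Eq.trans ?_ (congrArg (_ ≫ ·) ((_root_.ModSite.sectOnι O U).naturality ((R φ).map f))).symm
    refine Eq.trans ?_ (Category.assoc _ _ _)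
    refine Eq.trans ?_ (congrArg (· ≫ _) (cmpMap_ι φ U M)).symm
    exact ((R φ).map_comp _ _).symm.trans ((congrArg (R φ).map
      ((_root_.ModSite.sectOnι O' U).naturality f)).trans ((R φ).map_comp _ _)))

end Groth.Agent.Lib.ModSS29.SectRestrict
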